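import Cfsg.Agent.Lib.H17.G24S.Spec
import Cfsg.Agent.Lib.H17.LargeIsospectral
import Cfsg.Agent.Lib.H17.ChevBC

set_option autoImplicit false

/-! # Arbitrarily large groups with the prime graph of `G2(4)` -/

namespace Cfsg.Agent.Lib.H17.G24S

open Cfsg.Agent.Lib.H17.G24S.GrpLemmas Cfsg.Agent.Lib.H17.G24S.SemiLemmas

attribute [local instance] finite_P

theorem main {F : Type*} [Field F] [Fintype F] (hF : Fintype.card F = 4) (N : ℕ) :
    ∃ (H : Type) (_ : Group H) (_ : Finite H), N < Nat.card H ∧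
      ((∀ p : ℕ, p.Prime → (p ∣ Nat.card ↥(Cfsg.Lie.chevG2.group F) ↔ p ∣ Nat.card H)) ∧
      (∀ p q : ℕ, p.Prime → q.Prime → p ≠ q →
        ((∃ g : ↥(Cfsg.Lie.chevG2.group F), orderOf g = p * q) ↔
          (∃ g : H, orderOf g = p * q)))) := by
  obtain ⟨ψ0⟩ := isoChev
  let e : F ≃+* Cfsg.Agent.Lib.H17.F4 := FiniteField.ringEquivOfCardEq
    (by rw [hF, Cfsg.Agent.Lib.H17.F4.card_eq])
  let ψ : Cfsg.Lie.chevG2.group F ≃* P :=
    (Cfsg.Agent.Lib.H17.ChevBC.groupEquiv Cfsg.Lie.chevG2 e).trans ψ0.symm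
  let V : Subgroup H0 := (SemidirectProduct.inl : N6 →* H0).range
  have hVn : V.Normal := by
    show ((SemidirectProduct.inl : N6 →* H0).range).Normal
    rw [SemidirectProduct.range_inl_eq_ker_rightHom]
    infer_instance
  have hV : V ≠ ⊥ := by
    intro hbot
    have hmem : (SemidirectProduct.inl (Multiplicative.ofAdd (fun _ => (1 : F4)) : N6) : H0) ∈ V :=
      ⟨_, rfl⟩
    rw [hbot, Subgroup.mem_bot] at hmem
    have h1 : (Multiplicative.ofAdd (fun _ => (1 : F4)) : N6) = 1 := by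
      apply SemidirectProduct.inl_injective (φ := φ)
      rw [hmem, map_one]
    have h2 := congrFun (congrArg Multiplicative.toAdd h1) 0
    exact absurd h2 (by decide)
  have hcomm : ∀ x y : V, x * y = y * x := by
    rintro ⟨x, ⟨a, rfl⟩⟩ ⟨y, ⟨b, rfl⟩⟩
    apply Subtype.ext
    show SemidirectProduct.inl a * SemidirectProduct.inl b =
      SemidirectProduct.inl b * SemidirectProduct.inl a
    rw [← map_mul, ← map_mul, mul_comm a b]
  have hexp : ∀ x : V, x ^ 2 = 1 := by
    rintro ⟨x, ⟨a, rfl⟩⟩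
    apply Subtype.ext
    show (SemidirectProduct.inl a) ^ 2 = 1
    rw [← map_pow, exp_two a, map_one]
  obtain ⟨H, instG, instF, hcard, hspec⟩ :=
    exists_large_isospectral_of_elemAb V hV 2 Nat.prime_two hcomm hexp N
  refine ⟨H, instG, Finite.of_fintype H, by rwa [Nat.card_eq_fintype_card], ?_, ?_⟩
  · intro p hp
    rw [Nat.card_congr ψ.toEquiv, ← prime_dvd_H0_iff p hp, prime_dvd_card_iff p hp,
      prime_dvd_card_iff p hp]
    exact (exists_order_iff_of_range_eq hspec p).symm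
  · intro p q hp hq hpq
    rw [exists_order_iff_of_range_eq hspec (p * q), edge_iff p q hp hq hpq]
    constructor
    · rintro ⟨g, hg⟩
      exact ⟨ψ g, by rw [MulEquiv.orderOf_eq]; exact hg⟩
    · rintro ⟨g, hg⟩
      exact ⟨ψ.symm g, by rw [MulEquiv.orderOf_eq]; exact hg⟩

end Cfsg.Agent.Lib.H17.G24S
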