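import Mathlib

set_option autoImplicit false

namespace Cfsg.Agent.Lib.H17.G24S.GrpLemmas

open Pointwise

variable {G : Type*} [Group G]

theorem factorization_eq_one {n p : ℕ} (hp : p.Prime) (hn : n ≠ 0) (h1 : p ∣ n)
    (h2 : ¬ p ^ 2 ∣ n) : n.factorization p = 1 := by
  have ha : 1 ≤ n.factorization p := by
    rw [← hp.pow_dvd_iff_le_factorization hn]
    simpa using h1
  have hb : ¬ 2 ≤ n.factorization p := by
    rw [← hp.pow_dvd_iff_le_factorization hn]
    exact h2
  omega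

theorem card_zpowers_eq (t : G) : Nat.card (Subgroup.zpowers t) = orderOf t :=
  Nat.card_zpowers t

/-- When `p ∣ |G|` exactly once, a cyclic subgroup of order `p` is a Sylow `p`-subgroup. -/
theorem zpowers_sylow [Finite G] (p : ℕ) [hp : Fact p.Prime] (hp2 : ¬ p ^ 2 ∣ Nat.card G)
    (t : G) (ht : orderOf t = p) : ∃ Q : Sylow p G, (Q : Subgroup G) = Subgroup.zpowers t := by
  have hdvd : p ∣ Nat.card G := ht ▸ orderOf_dvd_natCard t
  have hf : (Nat.card G).factorization p = 1 :=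
    factorization_eq_one hp.out Nat.card_pos.ne' hdvd hp2
  refine ⟨Sylow.ofCard (Subgroup.zpowers t) ?_, rfl⟩
  rw [hf, pow_one, Nat.card_zpowers, ht]

theorem conj_mem_zpowers [Finite G] (p : ℕ) [hp : Fact p.Prime] (hp2 : ¬ p ^ 2 ∣ Nat.card G)
    (t g : G) (ht : orderOf t = p) (hg : orderOf g = p) :
    ∃ x : G, x * g * x⁻¹ ∈ Subgroup.zpowers t := by
  obtain ⟨Q, hQ⟩ := zpowers_sylow p hp2 t ht
  obtain ⟨Q', hQ'⟩ := zpowers_sylow p hp2 g hg
  obtain ⟨x, hx⟩ := MulAction.exists_smul_eq G Q' Q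
  refine ⟨x, ?_⟩
  have h1 : g ∈ (Q' : Subgroup G) := by
    rw [hQ']
    exact Subgroup.mem_zpowers g
  have h2 : MulAut.conj x • g ∈ MulAut.conj x • (Q' : Subgroup G) :=
    Subgroup.smul_mem_pointwise_smul _ _ _ h1
  rw [← Sylow.coe_subgroup_smul, hx, hQ] at h2
  simpa [MulAut.smul_def] using h2

/-- If `x ∈ ⟨t⟩` and both have prime order `p`, then `t ∈ ⟨x⟩`. -/
theorem mem_zpowers_symm [Finite G] (p : ℕ) (t x : G) (ht : orderOf t = p)
    (hx : orderOf x = p) (h : x ∈ Subgroup.zpowers t) : t ∈ Subgroup.zpowers x := by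
  have hle : Subgroup.zpowers x ≤ Subgroup.zpowers t := by
    rw [Subgroup.zpowers_le]
    exact h
  have hcard : Nat.card (Subgroup.zpowers t) ≤ Nat.card (Subgroup.zpowers x) := by
    rw [Nat.card_zpowers, Nat.card_zpowers, ht, hx]
  have := Subgroup.eq_of_le_of_card_ge hle hcard
  rw [this]
  exact Subgroup.mem_zpowers t

/-- Transfer of a "no nontrivial `r`-torsion in the centraliser" property from one element of prime
order `p` to all of them, when the Sylow `p`-subgroups have order `p`. -/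
theorem cent_transfer [Finite G] (p : ℕ) [hp : Fact p.Prime] (hp2 : ¬ p ^ 2 ∣ Nat.card G)
    (t : G) (ht : orderOf t = p) (r : ℕ)
    (hr : ∀ u : G, Commute u t → u ^ r = 1 → u = 1)
    (g : G) (hg : orderOf g = p) (u : G) (hu : Commute u g) (hur : u ^ r = 1) : u = 1 := by
  obtain ⟨x, hx⟩ := conj_mem_zpowers p hp2 t g ht hg
  have hord : orderOf (x * g * x⁻¹) = p := by
    rw [← MulAut.conj_apply, MulEquiv.orderOf_eq]
    exact hg
  have ht' := mem_zpowers_symm p t (x * g * x⁻¹) ht hord hx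
  obtain ⟨k, hk⟩ := Subgroup.mem_zpowers_iff.1 ht'
  have hc : Commute (x * u * x⁻¹) (x * g * x⁻¹) := by
    have := hu.eq
    show x * u * x⁻¹ * (x * g * x⁻¹) = x * g * x⁻¹ * (x * u * x⁻¹)
    calc x * u * x⁻¹ * (x * g * x⁻¹) = x * (u * g) * x⁻¹ := by group
      _ = x * (g * u) * x⁻¹ := by rw [this]
      _ = x * g * x⁻¹ * (x * u * x⁻¹) := by group
  have hc2 : Commute (x * u * x⁻¹) t := by
    rw [← hk]
    exact hc.zpow_right k
  have hpow : (x * u * x⁻¹) ^ r = 1 := by
    rw [conj_pow, hur]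
    group
  have := hr _ hc2 hpow
  have h3 : u = x⁻¹ * (x * u * x⁻¹) * x := by group
  rw [h3, this]
  group

theorem no_order_mul [Finite G] (p : ℕ) [hp : Fact p.Prime] (hp2 : ¬ p ^ 2 ∣ Nat.card G)
    (t : G) (ht : orderOf t = p) (r : ℕ) (hr1 : 1 < r)
    (hr : ∀ u : G, Commute u t → u ^ r = 1 → u = 1) (h : G) : orderOf h ≠ p * r := by
  intro hh
  have hp0 : p ≠ 0 := hp.out.ne_zero
  have hr0 : r ≠ 0 := by omega
  have hg : orderOf (h ^ r) = p := by
    rw [orderOf_pow_of_dvd hr0 (by rw [hh]; exact dvd_mul_left r p), hh]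
    exact Nat.mul_div_cancel p (by omega)
  have hu : Commute (h ^ p) (h ^ r) := (Commute.refl h).pow_pow p r
  have hur : (h ^ p) ^ r = 1 := by
    rw [← pow_mul, ← hh]
    exact pow_orderOf_eq_one h
  have h1 := cent_transfer p hp2 t ht r hr (h ^ r) hg (h ^ p) hu hur
  have h2 : orderOf h ∣ p := orderOf_dvd_of_pow_eq_one h1
  rw [hh] at h2
  have h3 : p * r ≤ p := Nat.le_of_dvd hp.out.pos h2
  have h4 : p * 2 ≤ p * r := Nat.mul_le_mul_left p hr1
  have := hp.out.pos
  omega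

/-- The `N/C` count for a Sylow subgroup of prime order. -/
theorem nc_count [Finite G] (p : ℕ) [hp : Fact p.Prime] (hp2 : ¬ p ^ 2 ∣ Nat.card G)
    (s : G) (hs : orderOf s = p) :
    ∃ n e : ℕ, n ≡ 1 [MOD p] ∧ e ∣ p - 1 ∧
      Nat.card G = n * e * Nat.card (Subgroup.centralizer (Subgroup.zpowers s : Set G)) := by
  obtain ⟨Q, hQ⟩ := zpowers_sylow p hp2 s hs
  have hfin : Finite (Sylow p G) := inferInstance
  have hcQ : Nat.card (Q : Subgroup G) = p := by rw [hQ, Nat.card_zpowers, hs]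
  have hcyc : IsCyclic (Q : Subgroup G) := by
    rw [hQ]
    infer_instance
  rw [← hQ]
  have hn : Nat.card (Sylow p G) = (Subgroup.normalizer ((Q : Subgroup G) : Set G)).index :=
    Q.card_eq_index_normalizer
  refine ⟨Nat.card (Sylow p G),
    (Subgroup.centralizer ((Q : Subgroup G) : Set G)).relIndex
      (Subgroup.normalizer ((Q : Subgroup G) : Set G)),
    card_sylow_modEq_one p G, ?_, ?_⟩
  · have key := Subgroup.card_dvd_of_injective _
      (QuotientGroup.kerLift_injective (Q : Subgroup G).normalizerMonoidHom)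
    rw [Subgroup.normalizerMonoidHom_ker, ← Subgroup.index, ← Subgroup.relIndex] at key
    rw [hcyc.card_mulAut, hcQ, Nat.totient_prime hp.out] at key
    exact key
  · rw [hn]
    have hle : Subgroup.centralizer ((Q : Subgroup G) : Set G) ≤
        Subgroup.normalizer ((Q : Subgroup G) : Set G) :=
      Subgroup.centralizer_le_normalizer _
    have h1 := Subgroup.relIndex_mul_index hle
    have h2 := Subgroup.index_mul_card (Subgroup.centralizer ((Q : Subgroup G) : Set G))
    rw [← h2, ← h1]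
    ring


theorem exists_orderOf_of_dvd [Finite G] (g : G) (k : ℕ) (h : k ∣ orderOf g) :
    ∃ g' : G, orderOf g' = k := by
  have ho : 0 < orderOf g := orderOf_pos g
  obtain ⟨m, hm⟩ := h
  have hk0 : 0 < k := Nat.pos_of_ne_zero (by
    intro h0
    rw [h0, zero_mul] at hm
    omega)
  have hm0 : m ≠ 0 := by
    intro h0
    rw [h0, mul_zero] at hm
    omega
  refine ⟨g ^ m, ?_⟩
  rw [orderOf_pow_of_dvd hm0 ⟨k, by rw [hm, mul_comm]⟩, hm]
  exact Nat.mul_div_cancel k (Nat.pos_of_ne_zero hm0)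

/-- An element whose order is divisible by `p` has a power of order `p`, with exponent coprime to
`p`, when `p ^ 2 ∤ |G|`. -/
theorem exists_coprime_pow_order [Finite G] (p : ℕ) [hp : Fact p.Prime]
    (hp2 : ¬ p ^ 2 ∣ Nat.card G) (t : G) (h : p ∣ orderOf t) :
    ∃ k : ℕ, Nat.Coprime k p ∧ orderOf (t ^ k) = p := by
  have ho : 0 < orderOf t := orderOf_pos t
  obtain ⟨k, hk⟩ := h
  have hk0 : k ≠ 0 := by
    intro h0
    rw [h0, mul_zero] at hk
    omega
  refine ⟨k, ?_, ?_⟩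
  · rw [Nat.coprime_comm, hp.out.coprime_iff_not_dvd]
    rintro ⟨j, rfl⟩
    apply hp2
    have : p ^ 2 ∣ orderOf t := ⟨j, by rw [hk]; ring⟩
    exact this.trans (orderOf_dvd_natCard t)
  · rw [orderOf_pow_of_dvd hk0 ⟨p, by rw [hk, mul_comm]⟩, hk]
    exact Nat.mul_div_cancel p (Nat.pos_of_ne_zero hk0)

theorem exists_pow_pow_eq {M : Type*} [Monoid M] (A : M) (p k : ℕ) (hp : 1 < p) (hA : A ^ p = 1)
    (hk : Nat.Coprime k p) : ∃ m : ℕ, (A ^ k) ^ m = A := by
  obtain ⟨m, -, hm⟩ := Nat.exists_mul_mod_eq_one_of_coprime hk hp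
  refine ⟨m, ?_⟩
  rw [← pow_mul, ← Nat.div_add_mod (k * m) p, hm, pow_add, pow_mul, hA, one_pow, one_mul, pow_one]

theorem exists_order_iff_of_range_eq {A B : Type*} [Monoid A] [Monoid B]
    (h : Set.range (orderOf : A → ℕ) = Set.range (orderOf : B → ℕ)) (k : ℕ) :
    (∃ a : A, orderOf a = k) ↔ (∃ b : B, orderOf b = k) := by
  have := Set.ext_iff.1 h k
  simpa [Set.mem_range] using this

theorem prime_dvd_card_iff [Finite G] (p : ℕ) (hp : p.Prime) :
    p ∣ Nat.card G ↔ ∃ a : G, orderOf a = p := by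
  have := Fact.mk hp
  constructor
  · intro h
    exact exists_prime_orderOf_dvd_card' p h
  · rintro ⟨a, rfl⟩
    exact orderOf_dvd_natCard a

end Cfsg.Agent.Lib.H17.G24S.GrpLemmas
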