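import Cfsg.Agent.Lib.H17.G24POrd.Upper
import Cfsg.Agent.Lib.H17.G2Main

set_option autoImplicit false
set_option maxRecDepth 100000

/-! # The presented group on `a, …, f` is the subgroup `K = ⟨a, …, f⟩` of the presented sporadic
Suzuki group, hence the Chevalley group `G₂(4)` -/

namespace Cfsg.Agent.Lib.H17.G24S

open Cfsg.Spor Cfsg.Agent.Lib.H17.CosetCert Cfsg.Agent.Lib.H17.CoxGlue Cfsg.Agent.Lib.H17.SuzGlue
  Cfsg.Agent.Lib.H17.SuzG24 Cfsg.Agent.Lib.H17.G2H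

/-- the presented group -/
abbrev P : Type := Cfsg.Agent.Lib.H17.G24Pres.Grp

/-- the images of the generators -/
noncomputable def fK (u : Cfsg.Agent.Lib.H17.G24PGlue.Gen) : G :=
  PresentedGroup.of (gen (Cfsg.Agent.Lib.H17.G24PGlue.idx u))

theorem fK_mul_self (u : Cfsg.Agent.Lib.H17.G24PGlue.Gen) : fK u * fK u = 1 := of_mul_self _

theorem relW_sub : ∀ w ∈ Cfsg.Agent.Lib.H17.G24PGlue.relW, w ∈ relW := by decide

theorem relW_lt : ∀ w ∈ Cfsg.Agent.Lib.H17.G24PGlue.relW, ∀ x ∈ w, x < 6 := by decide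

theorem fK_gen (x : ℕ) (hx : x < 6) :
    fK (Cfsg.Agent.Lib.H17.G24PGlue.gen x) = PresentedGroup.of (gen x) := by
  interval_cases x <;> rfl

theorem fK_words : ∀ w ∈ Cfsg.Agent.Lib.H17.G24PGlue.relW,
    ((w.map Cfsg.Agent.Lib.H17.G24PGlue.gen).map fK).prod = 1 := by
  intro w hw
  have h := relW_trivial w (relW_sub w hw)
  rw [List.map_map] at h ⊢
  rw [← h]
  congr 1
  apply List.map_congr_left
  intro x hx
  exact fK_gen x (relW_lt w hw x hx)

/-- the homomorphism to the presented Suzuki group -/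
noncomputable def toSuz : P →* G :=
  PresentedGroup.toGroup (f := fK) (Cfsg.Agent.Lib.H17.G24PGlue.lift_rels fK fK_mul_self fK_words)

theorem toSuz_of (u : Cfsg.Agent.Lib.H17.G24PGlue.Gen) : toSuz (PresentedGroup.of u) = fK u :=
  PresentedGroup.toGroup.of _

theorem range_toSuz : toSuz.range = K := by
  rw [MonoidHom.range_eq_map, ← PresentedGroup.closure_range_of, MonoidHom.map_closure, K_eq]
  congr 1
  ext g
  constructor
  · rintro ⟨_, ⟨u, rfl⟩, rfl⟩
    rw [toSuz_of]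
    cases u
    · exact ⟨_, Cfsg.Agent.Lib.H17.SuzG24.sg0_mem, rfl⟩
    · exact ⟨_, Cfsg.Agent.Lib.H17.SuzG24.sg1_mem, rfl⟩
    · exact ⟨_, Cfsg.Agent.Lib.H17.SuzG24.sg2_mem, rfl⟩
    · exact ⟨_, Cfsg.Agent.Lib.H17.SuzG24.sg3_mem, rfl⟩
    · exact ⟨_, Cfsg.Agent.Lib.H17.SuzG24.sg4_mem, rfl⟩
    · exact ⟨_, Cfsg.Agent.Lib.H17.SuzG24.sg5_mem, rfl⟩
  · rintro ⟨s, hs, rfl⟩
    simp only [Cfsg.Agent.Lib.H17.SuzG24.S, Set.mem_insert_iff, Set.mem_singleton_iff] at hs
    rcases hs with rfl | rfl | rfl | rfl | rfl | rfl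
    · exact ⟨_, ⟨.a, rfl⟩, by rw [toSuz_of]; rfl⟩
    · exact ⟨_, ⟨.b, rfl⟩, by rw [toSuz_of]; rfl⟩
    · exact ⟨_, ⟨.c, rfl⟩, by rw [toSuz_of]; rfl⟩
    · exact ⟨_, ⟨.d, rfl⟩, by rw [toSuz_of]; rfl⟩
    · exact ⟨_, ⟨.e, rfl⟩, by rw [toSuz_of]; rfl⟩
    · exact ⟨_, ⟨.f, rfl⟩, by rw [toSuz_of]; rfl⟩

theorem finite_P : Finite P :=
  Nat.finite_of_card_ne_zero Cfsg.Agent.Lib.H17.G24POrd.card_le.1.ne'

attribute [local instance] finite_P

theorem card_P : Nat.card P = 251596800 := by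
  have h1 : Nat.card toSuz.range = 251596800 := by rw [range_toSuz]; exact card_K
  have h2 := Subgroup.card_mul_index toSuz.ker
  rw [Subgroup.index_ker, h1] at h2
  have h3 := Cfsg.Agent.Lib.H17.G24POrd.card_le.2
  have h4 : 0 < Nat.card toSuz.ker := Nat.card_pos
  change Nat.card P ≤ 251596800 at h3
  nlinarith

theorem toSuz_injective : Function.Injective toSuz := by
  have h1 : Nat.card toSuz.range = 251596800 := by rw [range_toSuz]; exact card_K
  have h2 := Subgroup.card_mul_index toSuz.ker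
  rw [Subgroup.index_ker, h1, card_P] at h2
  have h3 : Nat.card toSuz.ker = 1 :=
    Nat.eq_of_mul_eq_mul_right (by norm_num : 0 < 251596800) (by rw [h2, one_mul])
  rw [← MonoidHom.ker_eq_bot_iff]
  exact Subgroup.card_eq_one.mp h3

/-- the presented group is `K` -/
noncomputable def isoK : P ≃* K :=
  (MonoidHom.ofInjective toSuz_injective).trans (MulEquiv.subgroupCongr range_toSuz)

/-- the presented group is the Chevalley group -/
theorem isoChev : Nonempty (P ≃* Cfsg.Lie.chevG2.group F4) := by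
  obtain ⟨e⟩ := Cfsg.Agent.Lib.H17.G2Main.main
  exact ⟨isoK.trans e⟩

end Cfsg.Agent.Lib.H17.G24S
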