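import Cfsg.Agent.Lib.H17.F4
import Cfsg.Agent.Lib.H17.G24PGlue

set_option autoImplicit false
set_option maxRecDepth 100000

/-! # Six matrices over the field with four elements satisfying the relators of the presentation of
`G₂(4)` on the letters `a, …, f`, and some of their products (generated) -/

namespace Cfsg.Agent.Lib.H17.G24S.RepData

open Matrix

/-- the matrices -/
abbrev M6 : Type := Matrix (Fin 6) (Fin 6) F4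

/-- the entry of a product -/
def dot (A B : M6) (i j : Fin 6) : F4 :=
  A i 0 * B 0 j + A i 1 * B 1 j + A i 2 * B 2 j + A i 3 * B 3 j + A i 4 * B 4 j + A i 5 * B 5 j

theorem mul_eq_of (A B C : M6)
    (h : ∀ i : Fin 6, dot A B i 0 = C i 0 ∧ dot A B i 1 = C i 1 ∧ dot A B i 2 = C i 2 ∧
      dot A B i 3 = C i 3 ∧ dot A B i 4 = C i 4 ∧ dot A B i 5 = C i 5) : A * B = C := by
  ext i j
  rw [Matrix.mul_apply, Fin.sum_univ_six]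
  obtain ⟨h0, h1, h2, h3, h4, h5⟩ := h i
  fin_cases j
  · exact h0
  · exact h1
  · exact h2
  · exact h3
  · exact h4
  · exact h5

theorem mulVec_eq_of (A : M6) (v w : Fin 6 → F4)
    (h : ∀ i : Fin 6, A i 0 * v 0 + A i 1 * v 1 + A i 2 * v 2 + A i 3 * v 3 +
      A i 4 * v 4 + A i 5 * v 5 = w i) : A *ᵥ v = w := by
  funext i
  rw [Matrix.mulVec, dotProduct, Fin.sum_univ_six]
  exact h i

/-- the entry of a matrix minus one -/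
def sub1 (A : M6) (i j : Fin 6) : F4 := A i j - (if i = j then 1 else 0)

theorem sub_one_eq_of (A B : M6)
    (h : ∀ i : Fin 6, sub1 A i 0 = B i 0 ∧ sub1 A i 1 = B i 1 ∧ sub1 A i 2 = B i 2 ∧
      sub1 A i 3 = B i 3 ∧ sub1 A i 4 = B i 4 ∧ sub1 A i 5 = B i 5) : A - 1 = B := by
  ext i j
  rw [Matrix.sub_apply, Matrix.one_apply]
  obtain ⟨h0, h1, h2, h3, h4, h5⟩ := h i
  fin_cases j
  · exact h0
  · exact h1
  · exact h2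
  · exact h3
  · exact h4
  · exact h5

theorem ne_of_entry (A B : M6) (i j : Fin 6) (h : A i j ≠ B i j) : A ≠ B := by
  intro e
  exact h (by rw [e])

/-- the matrix of the letter a -/
def gA : M6 := !![F4.o, F4.o, F4.o, F4.w2, F4.w, F4.o; F4.w, F4.z, F4.w2, F4.w, F4.w, F4.z; F4.z, F4.o, F4.z, F4.w2, F4.w, F4.o; F4.o, F4.z, F4.o, F4.w, F4.z, F4.w2; F4.z, F4.z, F4.z, F4.z, F4.o, F4.z; F4.o, F4.z, F4.o, F4.w2, F4.z, F4.w]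

/-- the matrix of the letter b -/
def gB : M6 := !![F4.z, F4.z, F4.w, F4.w2, F4.w2, F4.w; F4.w2, F4.o, F4.o, F4.w, F4.w, F4.o; F4.w2, F4.w, F4.o, F4.w2, F4.w2, F4.w2; F4.z, F4.w, F4.o, F4.z, F4.o, F4.w; F4.o, F4.o, F4.o, F4.z, F4.o, F4.w2; F4.w, F4.w2, F4.o, F4.w2, F4.w2, F4.o]

/-- the matrix of the letter c -/
def gC : M6 := !![F4.o, F4.z, F4.z, F4.z, F4.w2, F4.z; F4.w, F4.z, F4.w2, F4.w, F4.w, F4.z; F4.o, F4.w2, F4.w2, F4.o, F4.w, F4.z; F4.w2, F4.w, F4.o, F4.w, F4.o, F4.z; F4.z, F4.z, F4.z, F4.z, F4.o, F4.z; F4.o, F4.w2, F4.w, F4.o, F4.w2, F4.o]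

/-- the matrix of the letter d -/
def gD : M6 := !![F4.o, F4.o, F4.w, F4.z, F4.o, F4.o; F4.w, F4.w, F4.w2, F4.z, F4.z, F4.w2; F4.w, F4.o, F4.o, F4.z, F4.w, F4.o; F4.w, F4.z, F4.o, F4.o, F4.w, F4.w2; F4.o, F4.z, F4.o, F4.z, F4.w2, F4.z; F4.z, F4.o, F4.w, F4.z, F4.o, F4.z]

/-- the matrix of the letter e -/
def gE : M6 := !![F4.z, F4.w, F4.o, F4.w, F4.z, F4.w; F4.w, F4.w2, F4.z, F4.z, F4.w, F4.w2; F4.z, F4.w, F4.o, F4.o, F4.o, F4.o; F4.w, F4.o, F4.w, F4.w2, F4.o, F4.w; F4.w, F4.o, F4.w2, F4.w, F4.w2, F4.z; F4.w2, F4.w2, F4.o, F4.z, F4.z, F4.w]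

/-- the matrix of the letter f -/
def gF : M6 := !![F4.o, F4.w, F4.w, F4.o, F4.w2, F4.w; F4.w2, F4.w2, F4.o, F4.w2, F4.w2, F4.z; F4.z, F4.w, F4.w2, F4.o, F4.w2, F4.w; F4.w, F4.z, F4.w, F4.z, F4.z, F4.o; F4.z, F4.z, F4.z, F4.z, F4.o, F4.z; F4.w, F4.z, F4.w, F4.o, F4.z, F4.z]

/-- the matrix of a letter -/
def mat : ℕ → M6
  | 0 => gA
  | 1 => gB
  | 2 => gC
  | 3 => gD
  | 4 => gE
  | _ => gF

/-- the matrix of a word -/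
def ev (w : List ℕ) : M6 := (w.map mat).prod

theorem ev_nil : ev [] = 1 := rfl

theorem ev_cons (x : ℕ) (w : List ℕ) : ev (x :: w) = mat x * ev w := by
  unfold ev
  rw [List.map_cons, List.prod_cons]

theorem ev_singleton (x : ℕ) : ev [x] = mat x := by
  rw [ev_cons, ev_nil, mul_one]

theorem ev_append (u v : List ℕ) : ev (u ++ v) = ev u * ev v := by
  unfold ev
  rw [List.map_append, List.prod_append]

theorem ev_flatten_replicate (m : ℕ) (u : List ℕ) :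
    ev (List.replicate m u).flatten = ev u ^ m := by
  induction m with
  | zero => simp [ev_nil]
  | succ m ih =>
    rw [List.replicate_succ, List.flatten_cons, ev_append, ih, pow_succ']

theorem e0 : ev [1] = gB := ev_singleton _

/-- a product -/
def x0 : M6 := !![F4.z, F4.w2, F4.w, F4.o, F4.z, F4.o; F4.z, F4.z, F4.z, F4.w2, F4.w2, F4.w2; F4.w2, F4.o, F4.o, F4.o, F4.z, F4.z; F4.w, F4.w2, F4.w, F4.w, F4.z, F4.o; F4.o, F4.o, F4.o, F4.z, F4.o, F4.w2; F4.z, F4.w, F4.w, F4.o, F4.w, F4.w]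

theorem s0 : gA * gB = x0 := mul_eq_of _ _ _ (by decide)

theorem e1 : ev [0, 1] = x0 := by
  rw [ev_cons, e0]
  exact s0

theorem p0 : x0 ^ 1 = x0 := pow_one _

/-- a product -/
def x1 : M6 := !![F4.w2, F4.w2, F4.w, F4.w2, F4.z, F4.o; F4.w, F4.z, F4.w2, F4.w, F4.w, F4.z; F4.o, F4.z, F4.w, F4.w2, F4.w2, F4.o; F4.w, F4.z, F4.z, F4.z, F4.z, F4.z; F4.w, F4.w, F4.w2, F4.z, F4.w2, F4.z; F4.o, F4.z, F4.o, F4.w2, F4.z, F4.w]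

theorem s1 : x0 * x0 = x1 := mul_eq_of _ _ _ (by decide)

theorem p1 : x0 ^ 2 = x1 := by
  rw [pow_succ, p0]
  exact s1

/-- a product -/
def x2 : M6 := !![F4.z, F4.z, F4.z, F4.w2, F4.z, F4.z; F4.w2, F4.o, F4.o, F4.w, F4.w, F4.o; F4.w2, F4.w, F4.z, F4.w2, F4.o, F4.w; F4.z, F4.o, F4.w2, F4.w, F4.z, F4.w; F4.o, F4.o, F4.w2, F4.z, F4.w, F4.o; F4.w, F4.w2, F4.o, F4.w2, F4.w2, F4.o]

theorem s2 : x1 * x0 = x2 := mul_eq_of _ _ _ (by decide)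

theorem p2 : x0 ^ 3 = x2 := by
  rw [pow_succ, p1]
  exact s2

/-- a product -/
def x3 : M6 := !![F4.o, F4.w, F4.o, F4.o, F4.z, F4.w2; F4.w, F4.w, F4.w2, F4.w2, F4.w2, F4.o; F4.z, F4.w, F4.w, F4.o, F4.w2, F4.o; F4.o, F4.o, F4.w2, F4.o, F4.z, F4.w; F4.z, F4.z, F4.o, F4.z, F4.w2, F4.o; F4.o, F4.w2, F4.w, F4.o, F4.w2, F4.w2]

theorem s3 : x2 * x0 = x3 := mul_eq_of _ _ _ (by decide)

theorem p3 : x0 ^ 4 = x3 := by
  rw [pow_succ, p2]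
  exact s3

theorem s4 : x3 * x0 = (1 : M6) := mul_eq_of _ _ _ (by decide)

theorem p4 : x0 ^ 5 = (1 : M6) := by
  rw [pow_succ, p3]
  exact s4

theorem rel_0_1 : ev [0, 1, 0, 1, 0, 1, 0, 1, 0, 1] = 1 := by
  have h : ([0, 1, 0, 1, 0, 1, 0, 1, 0, 1] : List ℕ) = (List.replicate 5 [0, 1]).flatten := by decide
  rw [h, ev_flatten_replicate, e1]
  exact p4

theorem e2 : ev [2] = gC := ev_singleton _

/-- a product -/
def x4 : M6 := !![F4.o, F4.o, F4.o, F4.w2, F4.o, F4.o; F4.z, F4.o, F4.z, F4.z, F4.z, F4.z; F4.o, F4.w, F4.w, F4.w, F4.z, F4.o; F4.w, F4.w, F4.z, F4.o, F4.o, F4.w2; F4.z, F4.z, F4.z, F4.z, F4.o, F4.z; F4.z, F4.w2, F4.w2, F4.w, F4.w2, F4.w]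

theorem s5 : gA * gC = x4 := mul_eq_of _ _ _ (by decide)

theorem e3 : ev [0, 2] = x4 := by
  rw [ev_cons, e2]
  exact s5

theorem p5 : x4 ^ 1 = x4 := pow_one _

theorem s6 : x4 * x4 = (1 : M6) := mul_eq_of _ _ _ (by decide)

theorem p6 : x4 ^ 2 = (1 : M6) := by
  rw [pow_succ, p5]
  exact s6

theorem rel_0_2 : ev [0, 2, 0, 2] = 1 := by
  have h : ([0, 2, 0, 2] : List ℕ) = (List.replicate 2 [0, 2]).flatten := by decide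
  rw [h, ev_flatten_replicate, e3]
  exact p6

theorem e4 : ev [3] = gD := ev_singleton _

/-- a product -/
def x5 : M6 := !![F4.w, F4.w2, F4.w2, F4.w2, F4.w, F4.o; F4.w, F4.o, F4.z, F4.w, F4.o, F4.z; F4.o, F4.w2, F4.z, F4.w2, F4.o, F4.o; F4.z, F4.w2, F4.z, F4.w, F4.w2, F4.o; F4.o, F4.z, F4.o, F4.z, F4.w2, F4.z; F4.w, F4.w, F4.w2, F4.w2, F4.z, F4.w]

theorem s7 : gA * gD = x5 := mul_eq_of _ _ _ (by decide)

theorem e5 : ev [0, 3] = x5 := by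
  rw [ev_cons, e4]
  exact s7

theorem p7 : x5 ^ 1 = x5 := pow_one _

theorem s8 : x5 * x5 = (1 : M6) := mul_eq_of _ _ _ (by decide)

theorem p8 : x5 ^ 2 = (1 : M6) := by
  rw [pow_succ, p7]
  exact s8

theorem rel_0_3 : ev [0, 3, 0, 3] = 1 := by
  have h : ([0, 3, 0, 3] : List ℕ) = (List.replicate 2 [0, 3]).flatten := by decide
  rw [h, ev_flatten_replicate, e5]
  exact p8

theorem e6 : ev [4] = gE := ev_singleton _

/-- a product -/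
def x6 : M6 := !![F4.w2, F4.o, F4.o, F4.w, F4.o, F4.w2; F4.z, F4.w, F4.w2, F4.w, F4.z, F4.w2; F4.w2, F4.o, F4.o, F4.o, F4.z, F4.z; F4.o, F4.z, F4.z, F4.w, F4.w2, F4.o; F4.w, F4.o, F4.w2, F4.w, F4.w2, F4.z; F4.z, F4.w, F4.w2, F4.o, F4.w, F4.o]

theorem s9 : gA * gE = x6 := mul_eq_of _ _ _ (by decide)

theorem e7 : ev [0, 4] = x6 := by
  rw [ev_cons, e6]
  exact s9

theorem p9 : x6 ^ 1 = x6 := pow_one _

theorem s10 : x6 * x6 = (1 : M6) := mul_eq_of _ _ _ (by decide)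

theorem p10 : x6 ^ 2 = (1 : M6) := by
  rw [pow_succ, p9]
  exact s10

theorem rel_0_4 : ev [0, 4, 0, 4] = 1 := by
  have h : ([0, 4, 0, 4] : List ℕ) = (List.replicate 2 [0, 4]).flatten := by decide
  rw [h, ev_flatten_replicate, e7]
  exact p10

theorem e8 : ev [5] = gF := ev_singleton _

/-- a product -/
def x7 : M6 := !![F4.o, F4.w2, F4.w2, F4.w, F4.o, F4.w2; F4.o, F4.w, F4.w, F4.o, F4.o, F4.z; F4.z, F4.w2, F4.w, F4.w, F4.o, F4.w2; F4.w2, F4.z, F4.w2, F4.w2, F4.z, F4.w; F4.z, F4.z, F4.z, F4.z, F4.o, F4.z; F4.w2, F4.z, F4.w2, F4.w, F4.z, F4.w2]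

theorem s11 : gA * gF = x7 := mul_eq_of _ _ _ (by decide)

theorem e9 : ev [0, 5] = x7 := by
  rw [ev_cons, e8]
  exact s11

theorem p11 : x7 ^ 1 = x7 := pow_one _

theorem s12 : x7 * x7 = (1 : M6) := mul_eq_of _ _ _ (by decide)

theorem p12 : x7 ^ 2 = (1 : M6) := by
  rw [pow_succ, p11]
  exact s12

theorem rel_0_5 : ev [0, 5, 0, 5] = 1 := by
  have h : ([0, 5, 0, 5] : List ℕ) = (List.replicate 2 [0, 5]).flatten := by decide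
  rw [h, ev_flatten_replicate, e9]
  exact p12

/-- a product -/
def x8 : M6 := !![F4.w, F4.o, F4.o, F4.o, F4.w, F4.w; F4.z, F4.w2, F4.z, F4.o, F4.o, F4.o; F4.z, F4.z, F4.z, F4.z, F4.o, F4.w2; F4.z, F4.w, F4.o, F4.z, F4.o, F4.w; F4.o, F4.o, F4.o, F4.z, F4.z, F4.w2; F4.o, F4.o, F4.z, F4.z, F4.o, F4.o]

theorem s13 : gB * gC = x8 := mul_eq_of _ _ _ (by decide)

theorem e10 : ev [1, 2] = x8 := by
  rw [ev_cons, e2]
  exact s13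

theorem p13 : x8 ^ 1 = x8 := pow_one _

/-- a product -/
def x9 : M6 := !![F4.w2, F4.w2, F4.o, F4.w2, F4.z, F4.z; F4.z, F4.z, F4.z, F4.w2, F4.w2, F4.w2; F4.w, F4.w, F4.o, F4.z, F4.w2, F4.z; F4.w2, F4.w, F4.o, F4.w, F4.o, F4.z; F4.o, F4.o, F4.o, F4.z, F4.o, F4.w2; F4.w, F4.w, F4.z, F4.z, F4.w, F4.o]

theorem s14 : x8 * x8 = x9 := mul_eq_of _ _ _ (by decide)

theorem p14 : x8 ^ 2 = x9 := by
  rw [pow_succ, p13]
  exact s14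

theorem s15 : x9 * x8 = (1 : M6) := mul_eq_of _ _ _ (by decide)

theorem p15 : x8 ^ 3 = (1 : M6) := by
  rw [pow_succ, p14]
  exact s15

theorem rel_1_2 : ev [1, 2, 1, 2, 1, 2] = 1 := by
  have h : ([1, 2, 1, 2, 1, 2] : List ℕ) = (List.replicate 3 [1, 2]).flatten := by decide
  rw [h, ev_flatten_replicate, e10]
  exact p15

/-- a product -/
def x10 : M6 := !![F4.o, F4.z, F4.o, F4.w2, F4.w, F4.z; F4.w, F4.o, F4.o, F4.w, F4.w, F4.z; F4.z, F4.w, F4.z, F4.w2, F4.o, F4.o; F4.z, F4.z, F4.w, F4.z, F4.w2, F4.z; F4.z, F4.o, F4.z, F4.z, F4.w2, F4.w2; F4.w2, F4.w2, F4.w, F4.w2, F4.w, F4.w2]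

theorem s16 : gB * gD = x10 := mul_eq_of _ _ _ (by decide)

theorem e11 : ev [1, 3] = x10 := by
  rw [ev_cons, e4]
  exact s16

theorem p16 : x10 ^ 1 = x10 := pow_one _

theorem s17 : x10 * x10 = (1 : M6) := mul_eq_of _ _ _ (by decide)

theorem p17 : x10 ^ 2 = (1 : M6) := by
  rw [pow_succ, p16]
  exact s17

theorem rel_1_3 : ev [1, 3, 1, 3] = 1 := by
  have h : ([1, 3, 1, 3] : List ℕ) = (List.replicate 2 [1, 3]).flatten := by decide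
  rw [h, ev_flatten_replicate, e11]
  exact p17

/-- a product -/
def x11 : M6 := !![F4.o, F4.w, F4.w2, F4.o, F4.w2, F4.z; F4.o, F4.w2, F4.o, F4.w, F4.z, F4.w; F4.o, F4.z, F4.w, F4.w2, F4.w2, F4.o; F4.z, F4.w2, F4.z, F4.w2, F4.o, F4.w2; F4.w, F4.z, F4.z, F4.o, F4.z, F4.o; F4.w, F4.z, F4.o, F4.o, F4.o, F4.w2]

theorem s18 : gB * gE = x11 := mul_eq_of _ _ _ (by decide)

theorem e12 : ev [1, 4] = x11 := by
  rw [ev_cons, e6]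
  exact s18

theorem p18 : x11 ^ 1 = x11 := pow_one _

theorem s19 : x11 * x11 = (1 : M6) := mul_eq_of _ _ _ (by decide)

theorem p19 : x11 ^ 2 = (1 : M6) := by
  rw [pow_succ, p18]
  exact s19

theorem rel_1_4 : ev [1, 4, 1, 4] = 1 := by
  have h : ([1, 4, 1, 4] : List ℕ) = (List.replicate 2 [1, 4]).flatten := by decide
  rw [h, ev_flatten_replicate, e12]
  exact p19

/-- a product -/
def x12 : M6 := !![F4.w, F4.w2, F4.w2, F4.z, F4.w, F4.z; F4.o, F4.z, F4.w, F4.z, F4.z, F4.o; F4.w, F4.w, F4.z, F4.z, F4.w2, F4.z; F4.w, F4.w2, F4.w, F4.w, F4.w2, F4.w; F4.w2, F4.w2, F4.o, F4.z, F4.w, F4.z; F4.w2, F4.w2, F4.z, F4.z, F4.w2, F4.w]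

theorem s20 : gB * gF = x12 := mul_eq_of _ _ _ (by decide)

theorem e13 : ev [1, 5] = x12 := by
  rw [ev_cons, e8]
  exact s20

theorem p20 : x12 ^ 1 = x12 := pow_one _

/-- a product -/
def x13 : M6 := !![F4.z, F4.o, F4.w, F4.z, F4.w, F4.w2; F4.w, F4.w2, F4.w2, F4.z, F4.z, F4.w; F4.w2, F4.w2, F4.o, F4.z, F4.w, F4.w; F4.w2, F4.z, F4.z, F4.w2, F4.w2, F4.w2; F4.o, F4.o, F4.o, F4.z, F4.o, F4.w2; F4.o, F4.o, F4.z, F4.z, F4.o, F4.z]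

theorem s21 : x12 * x12 = x13 := mul_eq_of _ _ _ (by decide)

theorem p21 : x12 ^ 2 = x13 := by
  rw [pow_succ, p20]
  exact s21

theorem s22 : x13 * x12 = (1 : M6) := mul_eq_of _ _ _ (by decide)

theorem p22 : x12 ^ 3 = (1 : M6) := by
  rw [pow_succ, p21]
  exact s22

theorem rel_1_5 : ev [1, 5, 1, 5, 1, 5] = 1 := by
  have h : ([1, 5, 1, 5, 1, 5] : List ℕ) = (List.replicate 3 [1, 5]).flatten := by decide
  rw [h, ev_flatten_replicate, e13]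
  exact p22

/-- a product -/
def x14 : M6 := !![F4.w, F4.o, F4.o, F4.z, F4.w2, F4.o; F4.w, F4.o, F4.z, F4.w, F4.o, F4.z; F4.o, F4.w2, F4.z, F4.o, F4.w2, F4.w2; F4.z, F4.o, F4.w, F4.w, F4.o, F4.w; F4.o, F4.z, F4.o, F4.z, F4.w2, F4.z; F4.w, F4.w2, F4.w, F4.o, F4.w2, F4.w]

theorem s23 : gC * gD = x14 := mul_eq_of _ _ _ (by decide)

theorem e14 : ev [2, 3] = x14 := by
  rw [ev_cons, e4]
  exact s23

theorem p23 : x14 ^ 1 = x14 := pow_one _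

/-- a product -/
def x15 : M6 := !![F4.o, F4.w2, F4.w2, F4.w, F4.w, F4.w2; F4.z, F4.o, F4.z, F4.o, F4.o, F4.o; F4.o, F4.o, F4.o, F4.z, F4.o, F4.w; F4.w, F4.w2, F4.o, F4.o, F4.z, F4.o; F4.z, F4.w, F4.w, F4.o, F4.w, F4.w; F4.z, F4.z, F4.z, F4.w2, F4.o, F4.w]

theorem s24 : x14 * x14 = x15 := mul_eq_of _ _ _ (by decide)

theorem p24 : x14 ^ 2 = x15 := by
  rw [pow_succ, p23]
  exact s24

/-- a product -/
def x16 : M6 := !![F4.w2, F4.z, F4.o, F4.w, F4.w2, F4.o; F4.o, F4.w2, F4.o, F4.o, F4.z, F4.z; F4.w2, F4.w, F4.w2, F4.o, F4.w2, F4.o; F4.o, F4.z, F4.w, F4.w2, F4.w2, F4.o; F4.z, F4.w2, F4.w2, F4.o, F4.w, F4.z; F4.w, F4.w, F4.w2, F4.w2, F4.o, F4.w]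

theorem s25 : x15 * x14 = x16 := mul_eq_of _ _ _ (by decide)

theorem p25 : x14 ^ 3 = x16 := by
  rw [pow_succ, p24]
  exact s25

theorem s26 : x16 * x14 = gA := mul_eq_of _ _ _ (by decide)

theorem p26 : x14 ^ 4 = gA := by
  rw [pow_succ, p25]
  exact s26

/-- a product -/
def x17 : M6 := !![F4.o, F4.w2, F4.z, F4.w2, F4.z, F4.o; F4.w, F4.w, F4.w2, F4.z, F4.z, F4.w2; F4.w, F4.o, F4.o, F4.w, F4.z, F4.w2; F4.w, F4.w, F4.w2, F4.o, F4.z, F4.z; F4.o, F4.z, F4.o, F4.z, F4.w2, F4.z; F4.z, F4.z, F4.w2, F4.w, F4.w, F4.z]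

theorem s27 : gA * x14 = x17 := mul_eq_of _ _ _ (by decide)

theorem p27 : x14 ^ 5 = x17 := by
  rw [pow_succ, p26]
  exact s27

/-- a product -/
def x18 : M6 := !![F4.o, F4.w, F4.w, F4.o, F4.z, F4.w; F4.w, F4.z, F4.w2, F4.w2, F4.w2, F4.o; F4.o, F4.z, F4.z, F4.w2, F4.w2, F4.w2; F4.w2, F4.w2, F4.z, F4.w, F4.z, F4.w; F4.z, F4.w, F4.w, F4.o, F4.w, F4.w; F4.o, F4.z, F4.o, F4.z, F4.o, F4.o]

theorem s28 : x17 * x14 = x18 := mul_eq_of _ _ _ (by decide)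

theorem p28 : x14 ^ 6 = x18 := by
  rw [pow_succ, p27]
  exact s28

/-- a product -/
def x19 : M6 := !![F4.z, F4.w, F4.z, F4.o, F4.z, F4.o; F4.o, F4.z, F4.w, F4.w2, F4.o, F4.w2; F4.z, F4.z, F4.w, F4.w, F4.z, F4.o; F4.w2, F4.w2, F4.w2, F4.z, F4.w, F4.w2; F4.z, F4.w2, F4.w2, F4.o, F4.w, F4.z; F4.z, F4.o, F4.w, F4.z, F4.z, F4.z]

theorem s29 : x18 * x14 = x19 := mul_eq_of _ _ _ (by decide)

theorem p29 : x14 ^ 7 = x19 := by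
  rw [pow_succ, p28]
  exact s29

theorem s30 : x19 * x14 = (1 : M6) := mul_eq_of _ _ _ (by decide)

theorem p30 : x14 ^ 8 = (1 : M6) := by
  rw [pow_succ, p29]
  exact s30

theorem rel_2_3 : ev [2, 3, 2, 3, 2, 3, 2, 3, 2, 3, 2, 3, 2, 3, 2, 3] = 1 := by
  have h : ([2, 3, 2, 3, 2, 3, 2, 3, 2, 3, 2, 3, 2, 3, 2, 3] : List ℕ) = (List.replicate 8 [2, 3]).flatten := by decide
  rw [h, ev_flatten_replicate, e14]
  exact p30

/-- a product -/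
def x20 : M6 := !![F4.o, F4.o, F4.w2, F4.w2, F4.w, F4.w; F4.z, F4.w, F4.w2, F4.w, F4.z, F4.w2; F4.z, F4.w, F4.o, F4.o, F4.w, F4.o; F4.w, F4.o, F4.w, F4.w2, F4.w2, F4.w; F4.w, F4.o, F4.w2, F4.w, F4.w2, F4.z; F4.o, F4.w, F4.w, F4.w, F4.z, F4.w]

theorem s31 : gC * gE = x20 := mul_eq_of _ _ _ (by decide)

theorem e15 : ev [2, 4] = x20 := by
  rw [ev_cons, e6]
  exact s31

theorem p31 : x20 ^ 1 = x20 := pow_one _

theorem s32 : x20 * x20 = (1 : M6) := mul_eq_of _ _ _ (by decide)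

theorem p32 : x20 ^ 2 = (1 : M6) := by
  rw [pow_succ, p31]
  exact s32

theorem rel_2_4 : ev [2, 4, 2, 4] = 1 := by
  have h : ([2, 4, 2, 4] : List ℕ) = (List.replicate 2 [2, 4]).flatten := by decide
  rw [h, ev_flatten_replicate, e15]
  exact p32

/-- a product -/
def x21 : M6 := !![F4.o, F4.w, F4.w, F4.o, F4.z, F4.w; F4.o, F4.w, F4.w, F4.o, F4.o, F4.z; F4.o, F4.o, F4.o, F4.z, F4.o, F4.w; F4.o, F4.w, F4.w2, F4.w2, F4.o, F4.o; F4.z, F4.z, F4.z, F4.z, F4.o, F4.z; F4.w2, F4.w2, F4.z, F4.z, F4.w2, F4.z]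

theorem s33 : gC * gF = x21 := mul_eq_of _ _ _ (by decide)

theorem e16 : ev [2, 5] = x21 := by
  rw [ev_cons, e8]
  exact s33

theorem p33 : x21 ^ 1 = x21 := pow_one _

theorem s34 : x21 * x21 = (1 : M6) := mul_eq_of _ _ _ (by decide)

theorem p34 : x21 ^ 2 = (1 : M6) := by
  rw [pow_succ, p33]
  exact s34

theorem rel_2_5 : ev [2, 5, 2, 5] = 1 := by
  have h : ([2, 5, 2, 5] : List ℕ) = (List.replicate 2 [2, 5]).flatten := by decide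
  rw [h, ev_flatten_replicate, e16]
  exact p34

/-- a product -/
def x22 : M6 := !![F4.w2, F4.z, F4.o, F4.w, F4.w2, F4.o; F4.o, F4.o, F4.w, F4.z, F4.z, F4.z; F4.w, F4.w2, F4.w2, F4.o, F4.w, F4.w2; F4.w2, F4.z, F4.w2, F4.w, F4.o, F4.o; F4.o, F4.w2, F4.w, F4.w, F4.w2, F4.w2; F4.z, F4.o, F4.o, F4.z, F4.w2, F4.o]

theorem s35 : gD * gE = x22 := mul_eq_of _ _ _ (by decide)

theorem e17 : ev [3, 4] = x22 := by
  rw [ev_cons, e6]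
  exact s35

theorem p35 : x22 ^ 1 = x22 := pow_one _

/-- a product -/
def x23 : M6 := !![F4.w, F4.z, F4.o, F4.w, F4.w2, F4.o; F4.o, F4.z, F4.w, F4.z, F4.z, F4.z; F4.w, F4.w2, F4.w, F4.o, F4.w, F4.w2; F4.w2, F4.z, F4.w2, F4.w2, F4.o, F4.o; F4.o, F4.w2, F4.w, F4.w, F4.w, F4.w2; F4.z, F4.o, F4.o, F4.z, F4.w2, F4.z]

theorem s36 : x22 * x22 = x23 := mul_eq_of _ _ _ (by decide)

theorem p36 : x22 ^ 2 = x23 := by
  rw [pow_succ, p35]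
  exact s36

theorem s37 : x23 * x22 = (1 : M6) := mul_eq_of _ _ _ (by decide)

theorem p37 : x22 ^ 3 = (1 : M6) := by
  rw [pow_succ, p36]
  exact s37

theorem rel_3_4 : ev [3, 4, 3, 4, 3, 4] = 1 := by
  have h : ([3, 4, 3, 4, 3, 4] : List ℕ) = (List.replicate 3 [3, 4]).flatten := by decide
  rw [h, ev_flatten_replicate, e17]
  exact p37

/-- a product -/
def x24 : M6 := !![F4.z, F4.w, F4.z, F4.o, F4.z, F4.o; F4.w, F4.w2, F4.w, F4.w2, F4.w, F4.w; F4.w2, F4.w, F4.w2, F4.o, F4.w2, F4.o; F4.o, F4.o, F4.w2, F4.z, F4.z, F4.z; F4.o, F4.z, F4.o, F4.z, F4.w2, F4.z; F4.w2, F4.z, F4.z, F4.o, F4.w2, F4.w2]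

theorem s38 : gD * gF = x24 := mul_eq_of _ _ _ (by decide)

theorem e18 : ev [3, 5] = x24 := by
  rw [ev_cons, e8]
  exact s38

theorem p38 : x24 ^ 1 = x24 := pow_one _

theorem s39 : x24 * x24 = (1 : M6) := mul_eq_of _ _ _ (by decide)

theorem p39 : x24 ^ 2 = (1 : M6) := by
  rw [pow_succ, p38]
  exact s39

theorem rel_3_5 : ev [3, 5, 3, 5] = 1 := by
  have h : ([3, 5, 3, 5] : List ℕ) = (List.replicate 2 [3, 5]).flatten := by decide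
  rw [h, ev_flatten_replicate, e18]
  exact p39

/-- a product -/
def x25 : M6 := !![F4.o, F4.w2, F4.o, F4.w, F4.w, F4.z; F4.o, F4.o, F4.o, F4.w2, F4.o, F4.w2; F4.o, F4.w2, F4.o, F4.o, F4.w2, F4.w2; F4.w2, F4.w2, F4.o, F4.o, F4.w, F4.w2; F4.w, F4.o, F4.w2, F4.w, F4.w2, F4.z; F4.w, F4.o, F4.w, F4.w, F4.w2, F4.w2]

theorem s40 : gE * gF = x25 := mul_eq_of _ _ _ (by decide)

theorem e19 : ev [4, 5] = x25 := by
  rw [ev_cons, e8]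
  exact s40

theorem p40 : x25 ^ 1 = x25 := pow_one _

theorem s41 : x25 * x25 = (1 : M6) := mul_eq_of _ _ _ (by decide)

theorem p41 : x25 ^ 2 = (1 : M6) := by
  rw [pow_succ, p40]
  exact s41

theorem rel_4_5 : ev [4, 5, 4, 5] = 1 := by
  have h : ([4, 5, 4, 5] : List ℕ) = (List.replicate 2 [4, 5]).flatten := by decide
  rw [h, ev_flatten_replicate, e19]
  exact p41

theorem s42 : gD * gC = x19 := mul_eq_of _ _ _ (by decide)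

theorem e20 : ev [3, 2] = x19 := by
  rw [ev_cons, e2]
  exact s42

theorem p42 : x19 ^ 1 = x19 := pow_one _

theorem s43 : x19 * x19 = x18 := mul_eq_of _ _ _ (by decide)

theorem p43 : x19 ^ 2 = x18 := by
  rw [pow_succ, p42]
  exact s43

theorem s44 : x18 * x19 = x17 := mul_eq_of _ _ _ (by decide)

theorem p44 : x19 ^ 3 = x17 := by
  rw [pow_succ, p43]
  exact s44

theorem s45 : x17 * x19 = gA := mul_eq_of _ _ _ (by decide)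

theorem p45 : x19 ^ 4 = gA := by
  rw [pow_succ, p44]
  exact s45

theorem s46 : gA * gA = (1 : M6) := mul_eq_of _ _ _ (by decide)

theorem rel_x0 : ev [0, 3, 2, 3, 2, 3, 2, 3, 2] = 1 := by
  have h : ([0, 3, 2, 3, 2, 3, 2, 3, 2] : List ℕ) = [0] ++ (List.replicate 4 [3, 2]).flatten := by decide
  rw [h, ev_append, ev_singleton, ev_flatten_replicate, e20, p45]
  exact s46

/-- a product -/
def x26 : M6 := !![F4.z, F4.w, F4.z, F4.w, F4.w2, F4.z; F4.w, F4.w, F4.w2, F4.w2, F4.w2, F4.o; F4.o, F4.z, F4.o, F4.w2, F4.o, F4.z; F4.w, F4.w2, F4.w, F4.w, F4.w2, F4.w; F4.w2, F4.w2, F4.o, F4.z, F4.w2, F4.z; F4.z, F4.o, F4.o, F4.w2, F4.o, F4.w]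

theorem s47 : gB * x21 = x26 := mul_eq_of _ _ _ (by decide)

theorem e21 : ev [1, 2, 5] = x26 := by
  rw [ev_cons, e16]
  exact s47

/-- a product -/
def x27 : M6 := !![F4.w2, F4.w, F4.z, F4.z, F4.w2, F4.w; F4.o, F4.w2, F4.w, F4.w, F4.w, F4.w2; F4.w, F4.z, F4.o, F4.o, F4.o, F4.w; F4.w, F4.z, F4.o, F4.z, F4.z, F4.w; F4.w2, F4.w2, F4.o, F4.z, F4.w2, F4.z; F4.z, F4.w, F4.w, F4.o, F4.w, F4.w]

theorem s48 : gA * x26 = x27 := mul_eq_of _ _ _ (by decide)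

theorem e22 : ev [0, 1, 2, 5] = x27 := by
  rw [ev_cons, e21]
  exact s48

theorem p46 : x27 ^ 1 = x27 := pow_one _

/-- a product -/
def x28 : M6 := !![F4.w, F4.o, F4.w2, F4.o, F4.z, F4.w2; F4.o, F4.z, F4.w, F4.z, F4.z, F4.o; F4.w, F4.w2, F4.w, F4.w2, F4.z, F4.z; F4.w2, F4.z, F4.w, F4.w2, F4.w2, F4.w; F4.o, F4.o, F4.w2, F4.z, F4.z, F4.o; F4.w, F4.w2, F4.o, F4.w2, F4.w2, F4.w2]

theorem s49 : x27 * x27 = x28 := mul_eq_of _ _ _ (by decide)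

theorem p47 : x27 ^ 2 = x28 := by
  rw [pow_succ, p46]
  exact s49

/-- a product -/
def x29 : M6 := !![F4.w2, F4.o, F4.o, F4.w, F4.o, F4.w; F4.z, F4.z, F4.z, F4.w2, F4.w2, F4.w2; F4.z, F4.o, F4.z, F4.w2, F4.w, F4.w2; F4.w, F4.z, F4.o, F4.z, F4.o, F4.z; F4.w2, F4.w2, F4.w2, F4.z, F4.z, F4.w; F4.w2, F4.w, F4.o, F4.w2, F4.w, F4.w2]

theorem s50 : x28 * x27 = x29 := mul_eq_of _ _ _ (by decide)

theorem p48 : x27 ^ 3 = x29 := by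
  rw [pow_succ, p47]
  exact s50

/-- a product -/
def x30 : M6 := !![F4.o, F4.w, F4.w2, F4.o, F4.o, F4.z; F4.w2, F4.w2, F4.o, F4.w2, F4.w2, F4.z; F4.o, F4.w2, F4.w, F4.o, F4.w, F4.w2; F4.z, F4.z, F4.z, F4.o, F4.w2, F4.o; F4.z, F4.z, F4.o, F4.z, F4.w2, F4.o; F4.w, F4.z, F4.w, F4.o, F4.z, F4.w]

theorem s51 : x29 * x27 = x30 := mul_eq_of _ _ _ (by decide)

theorem p49 : x27 ^ 4 = x30 := by
  rw [pow_succ, p48]
  exact s51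

theorem s52 : x30 * x27 = (1 : M6) := mul_eq_of _ _ _ (by decide)

theorem p50 : x27 ^ 5 = (1 : M6) := by
  rw [pow_succ, p49]
  exact s52

theorem rel_x1 : ev [0, 1, 2, 5, 0, 1, 2, 5, 0, 1, 2, 5, 0, 1, 2, 5, 0, 1, 2, 5] = 1 := by
  have h : ([0, 1, 2, 5, 0, 1, 2, 5, 0, 1, 2, 5, 0, 1, 2, 5, 0, 1, 2, 5] : List ℕ) = (List.replicate 5 [0, 1, 2, 5]).flatten := by decide
  rw [h, ev_flatten_replicate, e22]
  exact p50

/-- a product -/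
def x31 : M6 := !![F4.o, F4.w, F4.w, F4.o, F4.w2, F4.w; F4.w, F4.z, F4.w2, F4.w2, F4.w2, F4.o; F4.z, F4.w2, F4.w, F4.w, F4.o, F4.w2; F4.o, F4.w, F4.w2, F4.z, F4.z, F4.w; F4.z, F4.w, F4.w, F4.o, F4.w, F4.w; F4.o, F4.z, F4.o, F4.z, F4.w2, F4.o]

theorem s53 : gD * x14 = x31 := mul_eq_of _ _ _ (by decide)

theorem e23 : ev [3, 2, 3] = x31 := by
  rw [ev_cons, e14]
  exact s53

theorem s54 : gC * x31 = x15 := mul_eq_of _ _ _ (by decide)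

theorem e24 : ev [2, 3, 2, 3] = x15 := by
  rw [ev_cons, e23]
  exact s54

/-- a product -/
def x32 : M6 := !![F4.w2, F4.o, F4.z, F4.o, F4.o, F4.w; F4.o, F4.z, F4.w, F4.w2, F4.w2, F4.w; F4.w2, F4.w, F4.o, F4.o, F4.z, F4.o; F4.o, F4.o, F4.w2, F4.w, F4.w2, F4.o; F4.z, F4.o, F4.z, F4.z, F4.w2, F4.w2; F4.w, F4.z, F4.w, F4.w2, F4.o, F4.z]

theorem s55 : gB * x15 = x32 := mul_eq_of _ _ _ (by decide)

theorem e25 : ev [1, 2, 3, 2, 3] = x32 := by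
  rw [ev_cons, e24]
  exact s55

theorem p51 : x32 ^ 1 = x32 := pow_one _

/-- a product -/
def x33 : M6 := !![F4.o, F4.w2, F4.w, F4.w2, F4.w, F4.o; F4.w, F4.w, F4.w2, F4.w2, F4.w2, F4.o; F4.z, F4.z, F4.w2, F4.w, F4.z, F4.w; F4.z, F4.o, F4.w, F4.o, F4.z, F4.w2; F4.z, F4.w2, F4.w2, F4.o, F4.w, F4.z; F4.w2, F4.w2, F4.z, F4.o, F4.w2, F4.o]

theorem s56 : x32 * x32 = x33 := mul_eq_of _ _ _ (by decide)

theorem p52 : x32 ^ 2 = x33 := by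
  rw [pow_succ, p51]
  exact s56

/-- a product -/
def x34 : M6 := !![F4.z, F4.w2, F4.w2, F4.w2, F4.o, F4.w2; F4.z, F4.w2, F4.z, F4.w, F4.w, F4.w; F4.w2, F4.w2, F4.o, F4.o, F4.w2, F4.o; F4.z, F4.w, F4.w, F4.o, F4.w2, F4.o; F4.z, F4.w, F4.o, F4.w2, F4.z, F4.w; F4.w, F4.o, F4.z, F4.z, F4.o, F4.w2]

theorem s57 : x33 * x32 = x34 := mul_eq_of _ _ _ (by decide)

theorem p53 : x32 ^ 3 = x34 := by
  rw [pow_succ, p52]
  exact s57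

/-- a product -/
def x35 : M6 := !![F4.w2, F4.w2, F4.o, F4.w, F4.z, F4.w; F4.w, F4.z, F4.w2, F4.z, F4.z, F4.w; F4.o, F4.w2, F4.o, F4.o, F4.o, F4.w; F4.z, F4.o, F4.z, F4.w, F4.o, F4.w; F4.o, F4.o, F4.w2, F4.z, F4.o, F4.o; F4.o, F4.w2, F4.w2, F4.w2, F4.o, F4.w]

theorem s58 : x34 * x32 = x35 := mul_eq_of _ _ _ (by decide)

theorem p54 : x32 ^ 4 = x35 := by
  rw [pow_succ, p53]
  exact s58

/-- a product -/
def x36 : M6 := !![F4.w2, F4.w2, F4.w, F4.w, F4.w, F4.w2; F4.z, F4.w2, F4.z, F4.z, F4.z, F4.z; F4.o, F4.w2, F4.z, F4.o, F4.o, F4.z; F4.z, F4.w2, F4.z, F4.o, F4.w2, F4.w2; F4.w, F4.o, F4.w2, F4.w, F4.z, F4.z; F4.w, F4.w, F4.w2, F4.z, F4.z, F4.z]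

theorem s59 : x35 * x32 = x36 := mul_eq_of _ _ _ (by decide)

theorem p55 : x32 ^ 5 = x36 := by
  rw [pow_succ, p54]
  exact s59

/-- a product -/
def x37 : M6 := !![F4.w2, F4.w, F4.z, F4.o, F4.z, F4.w2; F4.o, F4.w, F4.z, F4.z, F4.o, F4.w; F4.o, F4.z, F4.z, F4.w2, F4.w2, F4.w; F4.z, F4.w, F4.w2, F4.w, F4.w, F4.o; F4.o, F4.w2, F4.w, F4.o, F4.w2, F4.z; F4.w2, F4.w2, F4.o, F4.z, F4.z, F4.o]

theorem s60 : x36 * gE = x37 := mul_eq_of _ _ _ (by decide)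

theorem p56 : x37 ^ 1 = x37 := pow_one _

/-- a product -/
def x38 : M6 := !![F4.w, F4.w, F4.z, F4.o, F4.z, F4.w2; F4.o, F4.w2, F4.z, F4.z, F4.o, F4.w; F4.o, F4.z, F4.o, F4.w2, F4.w2, F4.w; F4.z, F4.w, F4.w2, F4.w2, F4.w, F4.o; F4.o, F4.w2, F4.w, F4.o, F4.w, F4.z; F4.w2, F4.w2, F4.o, F4.z, F4.z, F4.z]

theorem s61 : x37 * x37 = x38 := mul_eq_of _ _ _ (by decide)

theorem p57 : x37 ^ 2 = x38 := by
  rw [pow_succ, p56]
  exact s61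

theorem s62 : x38 * x37 = (1 : M6) := mul_eq_of _ _ _ (by decide)

theorem p58 : x37 ^ 3 = (1 : M6) := by
  rw [pow_succ, p57]
  exact s62

theorem rel_x2 : ev [1, 2, 3, 2, 3, 1, 2, 3, 2, 3, 1, 2, 3, 2, 3, 1, 2, 3, 2, 3, 1, 2, 3, 2, 3, 4, 1, 2, 3, 2, 3, 1, 2, 3, 2, 3, 1, 2, 3, 2, 3, 1, 2, 3, 2, 3, 1, 2, 3, 2, 3, 4, 1, 2, 3, 2, 3, 1, 2, 3, 2, 3, 1, 2, 3, 2, 3, 1, 2, 3, 2, 3, 1, 2, 3, 2, 3, 4] = 1 := by
  have h : ([1, 2, 3, 2, 3, 1, 2, 3, 2, 3, 1, 2, 3, 2, 3, 1, 2, 3, 2, 3, 1, 2, 3, 2, 3, 4, 1, 2, 3, 2, 3, 1, 2, 3, 2, 3, 1, 2, 3, 2, 3, 1, 2, 3, 2, 3, 1, 2, 3, 2, 3, 4, 1, 2, 3, 2, 3, 1, 2, 3, 2, 3, 1, 2, 3, 2, 3, 1, 2, 3, 2, 3, 1, 2, 3, 2, 3, 4] : List ℕ) = (List.replicate 3 ((List.replicate 5 [1, 2, 3, 2, 3]).flatten ++ [4])).flatten := by decide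
  rw [h, ev_flatten_replicate, ev_append, ev_singleton, ev_flatten_replicate, e25, p55]
  change (x36 * gE) ^ 3 = 1
  rw [s60]
  exact p58

theorem sq_0 : mat 0 * mat 0 = 1 := s46

theorem rel_sq_0 : ev [0, 0] = 1 := by
  rw [ev_cons, ev_singleton]
  exact s46

theorem s63 : gB * gB = (1 : M6) := mul_eq_of _ _ _ (by decide)

theorem sq_1 : mat 1 * mat 1 = 1 := s63

theorem rel_sq_1 : ev [1, 1] = 1 := by
  rw [ev_cons, ev_singleton]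
  exact s63

theorem s64 : gC * gC = (1 : M6) := mul_eq_of _ _ _ (by decide)

theorem sq_2 : mat 2 * mat 2 = 1 := s64

theorem rel_sq_2 : ev [2, 2] = 1 := by
  rw [ev_cons, ev_singleton]
  exact s64

theorem s65 : gD * gD = (1 : M6) := mul_eq_of _ _ _ (by decide)

theorem sq_3 : mat 3 * mat 3 = 1 := s65

theorem rel_sq_3 : ev [3, 3] = 1 := by
  rw [ev_cons, ev_singleton]
  exact s65

theorem s66 : gE * gE = (1 : M6) := mul_eq_of _ _ _ (by decide)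

theorem sq_4 : mat 4 * mat 4 = 1 := s66

theorem rel_sq_4 : ev [4, 4] = 1 := by
  rw [ev_cons, ev_singleton]
  exact s66

theorem s67 : gF * gF = (1 : M6) := mul_eq_of _ _ _ (by decide)

theorem sq_5 : mat 5 * mat 5 = 1 := s67

theorem rel_sq_5 : ev [5, 5] = 1 := by
  rw [ev_cons, ev_singleton]
  exact s67

/-- all the relator words are trivial -/
theorem ev_relW : ∀ w ∈ Cfsg.Agent.Lib.H17.G24PGlue.relW, ev w = 1 := by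
  intro w hw
  simp only [Cfsg.Agent.Lib.H17.G24PGlue.relW, List.mem_cons, List.not_mem_nil, or_false] at hw
  rcases hw with rfl | rfl | rfl | rfl | rfl | rfl | rfl | rfl | rfl | rfl | rfl | rfl | rfl | rfl | rfl | rfl | rfl | rfl | rfl | rfl | rfl | rfl | rfl | rfl | rfl
  · exact rel_0_1
  · exact rel_0_2
  · exact rel_0_3
  · exact rel_0_4
  · exact rel_0_5
  · exact rel_1_2
  · exact rel_1_3
  · exact rel_1_4
  · exact rel_1_5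
  · exact rel_2_3
  · exact rel_2_4
  · exact rel_2_5
  · exact rel_3_4
  · exact rel_3_5
  · exact rel_4_5
  · exact rel_x0
  · exact rel_x1
  · exact rel_x2
  · exact rel_sq_0
  · exact rel_sq_1
  · exact rel_sq_2
  · exact rel_sq_3
  · exact rel_sq_4
  · exact rel_sq_5
  · exact ev_nil

/-- a product -/
def x39 : M6 := !![F4.z, F4.w, F4.z, F4.o, F4.z, F4.o; F4.w2, F4.w2, F4.w, F4.z, F4.w2, F4.w2; F4.o, F4.o, F4.w, F4.w, F4.o, F4.w2; F4.z, F4.z, F4.z, F4.z, F4.o, F4.w2; F4.o, F4.w2, F4.w, F4.w, F4.w2, F4.w2; F4.w2, F4.o, F4.w, F4.w, F4.w2, F4.w2]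

theorem s68 : gA * x22 = x39 := mul_eq_of _ _ _ (by decide)

theorem e26 : ev [0, 3, 4] = x39 := by
  rw [ev_cons, e17]
  exact s68

theorem p59 : x39 ^ 1 = x39 := pow_one _

theorem s69 : x39 * x39 = x23 := mul_eq_of _ _ _ (by decide)

theorem p60 : x39 ^ 2 = x23 := by
  rw [pow_succ, p59]
  exact s69

theorem s70 : x23 * x39 = gA := mul_eq_of _ _ _ (by decide)

theorem p61 : x39 ^ 3 = gA := by
  rw [pow_succ, p60]
  exact s70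

theorem s71 : gA * x39 = x22 := mul_eq_of _ _ _ (by decide)

theorem p62 : x39 ^ 4 = x22 := by
  rw [pow_succ, p61]
  exact s71

/-- a product -/
def x40 : M6 := !![F4.o, F4.w2, F4.o, F4.w, F4.w, F4.z; F4.o, F4.w2, F4.o, F4.w, F4.o, F4.w2; F4.o, F4.z, F4.w, F4.o, F4.w2, F4.w; F4.o, F4.z, F4.o, F4.w, F4.o, F4.z; F4.o, F4.w2, F4.w, F4.w, F4.w, F4.w2; F4.w, F4.o, F4.w2, F4.o, F4.w2, F4.o]

theorem s72 : x22 * x39 = x40 := mul_eq_of _ _ _ (by decide)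

theorem p63 : x39 ^ 5 = x40 := by
  rw [pow_succ, p62]
  exact s72

theorem s73 : x40 * x39 = (1 : M6) := mul_eq_of _ _ _ (by decide)

theorem p64 : x39 ^ 6 = (1 : M6) := by
  rw [pow_succ, p63]
  exact s73

/-- the matrix of the word ade, of order 6 -/
theorem o6_ev : ev [0, 3, 4] = x39 := e26

theorem o6_pow : x39 ^ 6 = 1 := p64

theorem o6_pow_3_ne : x39 ^ 3 ≠ 1 := by
  rw [p61]
  exact ne_of_entry _ _ 0 1 (by decide)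

theorem o6_pow_2_ne : x39 ^ 2 ≠ 1 := by
  rw [p60]
  exact ne_of_entry _ _ 0 0 (by decide)

/-- a product -/
def x41 : M6 := !![F4.z, F4.w, F4.w2, F4.o, F4.z, F4.w2; F4.w, F4.w2, F4.o, F4.w2, F4.z, F4.w; F4.o, F4.z, F4.w, F4.o, F4.w2, F4.w; F4.w2, F4.z, F4.w2, F4.w, F4.w2, F4.w2; F4.z, F4.o, F4.z, F4.z, F4.w2, F4.w2; F4.z, F4.w2, F4.w2, F4.o, F4.w, F4.z]

theorem s74 : gA * x10 = x41 := mul_eq_of _ _ _ (by decide)

theorem e27 : ev [0, 1, 3] = x41 := by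
  rw [ev_cons, e11]
  exact s74

theorem p65 : x41 ^ 1 = x41 := pow_one _

theorem s75 : x41 * x41 = x1 := mul_eq_of _ _ _ (by decide)

theorem p66 : x41 ^ 2 = x1 := by
  rw [pow_succ, p65]
  exact s75

/-- a product -/
def x42 : M6 := !![F4.o, F4.z, F4.w2, F4.w2, F4.o, F4.w; F4.w, F4.o, F4.o, F4.w, F4.w, F4.z; F4.z, F4.w, F4.o, F4.w2, F4.w2, F4.z; F4.z, F4.w2, F4.o, F4.w, F4.z, F4.o; F4.z, F4.o, F4.w, F4.z, F4.z, F4.o; F4.w2, F4.w2, F4.w, F4.w2, F4.w, F4.w2]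

theorem s76 : x1 * x41 = x42 := mul_eq_of _ _ _ (by decide)

theorem p67 : x41 ^ 3 = x42 := by
  rw [pow_succ, p66]
  exact s76

theorem s77 : x42 * x41 = x3 := mul_eq_of _ _ _ (by decide)

theorem p68 : x41 ^ 4 = x3 := by
  rw [pow_succ, p67]
  exact s77

theorem s78 : x3 * x41 = gD := mul_eq_of _ _ _ (by decide)

theorem p69 : x41 ^ 5 = gD := by
  rw [pow_succ, p68]
  exact s78

theorem s79 : gD * x41 = x0 := mul_eq_of _ _ _ (by decide)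

theorem p70 : x41 ^ 6 = x0 := by
  rw [pow_succ, p69]
  exact s79

/-- a product -/
def x43 : M6 := !![F4.z, F4.o, F4.z, F4.w2, F4.z, F4.o; F4.w, F4.o, F4.z, F4.w, F4.o, F4.z; F4.z, F4.w, F4.w, F4.w2, F4.z, F4.o; F4.w, F4.w, F4.w2, F4.z, F4.w, F4.w; F4.w2, F4.w, F4.w, F4.z, F4.o, F4.z; F4.w, F4.w, F4.w2, F4.w2, F4.z, F4.w]

theorem s80 : x0 * x41 = x43 := mul_eq_of _ _ _ (by decide)

theorem p71 : x41 ^ 7 = x43 := by
  rw [pow_succ, p70]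
  exact s80

theorem s81 : x43 * x41 = x2 := mul_eq_of _ _ _ (by decide)

theorem p72 : x41 ^ 8 = x2 := by
  rw [pow_succ, p71]
  exact s81

/-- a product -/
def x44 : M6 := !![F4.w, F4.z, F4.w, F4.o, F4.w, F4.w; F4.w, F4.w2, F4.w2, F4.w2, F4.o, F4.w; F4.o, F4.z, F4.w2, F4.o, F4.w, F4.z; F4.z, F4.w, F4.z, F4.o, F4.z, F4.w; F4.o, F4.z, F4.z, F4.z, F4.o, F4.o; F4.w, F4.o, F4.o, F4.o, F4.o, F4.w]

theorem s82 : x2 * x41 = x44 := mul_eq_of _ _ _ (by decide)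

theorem p73 : x41 ^ 9 = x44 := by
  rw [pow_succ, p72]
  exact s82

theorem s83 : x44 * x41 = (1 : M6) := mul_eq_of _ _ _ (by decide)

theorem p74 : x41 ^ 10 = (1 : M6) := by
  rw [pow_succ, p73]
  exact s83

/-- the matrix of the word abd, of order 10 -/
theorem o10_ev : ev [0, 1, 3] = x41 := e27

theorem o10_pow : x41 ^ 10 = 1 := p74

theorem o10_pow_5_ne : x41 ^ 5 ≠ 1 := by
  rw [p69]
  exact ne_of_entry _ _ 0 1 (by decide)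

theorem o10_pow_2_ne : x41 ^ 2 ≠ 1 := by
  rw [p66]
  exact ne_of_entry _ _ 0 0 (by decide)

/-- a product -/
def x45 : M6 := !![F4.w, F4.o, F4.z, F4.w, F4.w2, F4.w; F4.w, F4.w, F4.o, F4.z, F4.z, F4.w; F4.w2, F4.z, F4.w2, F4.z, F4.w2, F4.w; F4.o, F4.z, F4.z, F4.w2, F4.z, F4.w; F4.o, F4.w, F4.o, F4.o, F4.z, F4.w; F4.o, F4.w2, F4.w, F4.w, F4.o, F4.o]

theorem s84 : gB * x22 = x45 := mul_eq_of _ _ _ (by decide)

theorem e28 : ev [1, 3, 4] = x45 := by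
  rw [ev_cons, e17]
  exact s84

/-- a product -/
def x46 : M6 := !![F4.w2, F4.w2, F4.w, F4.z, F4.o, F4.o; F4.o, F4.o, F4.z, F4.z, F4.w2, F4.w; F4.w, F4.w, F4.o, F4.w, F4.o, F4.o; F4.z, F4.w2, F4.w, F4.w, F4.w2, F4.z; F4.o, F4.w, F4.o, F4.o, F4.z, F4.w; F4.z, F4.z, F4.z, F4.w2, F4.w, F4.w2]

theorem s85 : gA * x45 = x46 := mul_eq_of _ _ _ (by decide)

theorem e29 : ev [0, 1, 3, 4] = x46 := by
  rw [ev_cons, e28]
  exact s85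

theorem p75 : x46 ^ 1 = x46 := pow_one _

/-- a product -/
def x47 : M6 := !![F4.w2, F4.z, F4.w, F4.o, F4.o, F4.o; F4.o, F4.w2, F4.o, F4.w, F4.o, F4.w2; F4.z, F4.w, F4.z, F4.w2, F4.o, F4.o; F4.w2, F4.z, F4.w, F4.w2, F4.o, F4.w; F4.w2, F4.z, F4.o, F4.o, F4.o, F4.w; F4.w, F4.o, F4.w2, F4.o, F4.w2, F4.o]

theorem s86 : x46 * x46 = x47 := mul_eq_of _ _ _ (by decide)

theorem p76 : x46 ^ 2 = x47 := by
  rw [pow_succ, p75]
  exact s86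

theorem s87 : x47 * x46 = x2 := mul_eq_of _ _ _ (by decide)

theorem p77 : x46 ^ 3 = x2 := by
  rw [pow_succ, p76]
  exact s87

/-- a product -/
def x48 : M6 := !![F4.z, F4.w, F4.o, F4.o, F4.w, F4.z; F4.w2, F4.w2, F4.o, F4.z, F4.w, F4.z; F4.o, F4.z, F4.o, F4.o, F4.w2, F4.w2; F4.z, F4.o, F4.z, F4.w2, F4.w, F4.z; F4.o, F4.z, F4.w2, F4.z, F4.w2, F4.z; F4.w2, F4.w2, F4.z, F4.w2, F4.o, F4.z]

theorem s88 : x2 * x46 = x48 := mul_eq_of _ _ _ (by decide)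

theorem p78 : x46 ^ 4 = x48 := by
  rw [pow_succ, p77]
  exact s88

theorem s89 : x48 * x46 = x23 := mul_eq_of _ _ _ (by decide)

theorem p79 : x46 ^ 5 = x23 := by
  rw [pow_succ, p78]
  exact s89

theorem s90 : x23 * x46 = x0 := mul_eq_of _ _ _ (by decide)

theorem p80 : x46 ^ 6 = x0 := by
  rw [pow_succ, p79]
  exact s90

/-- a product -/
def x49 : M6 := !![F4.z, F4.w2, F4.z, F4.w, F4.o, F4.z; F4.w2, F4.w2, F4.w, F4.z, F4.w2, F4.w2; F4.o, F4.w, F4.w, F4.z, F4.w, F4.z; F4.o, F4.z, F4.w, F4.w2, F4.o, F4.w; F4.o, F4.w, F4.w, F4.o, F4.w, F4.w; F4.w2, F4.o, F4.w, F4.w, F4.w2, F4.w2]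

theorem s91 : x0 * x46 = x49 := mul_eq_of _ _ _ (by decide)

theorem p81 : x46 ^ 7 = x49 := by
  rw [pow_succ, p80]
  exact s91

/-- a product -/
def x50 : M6 := !![F4.w, F4.z, F4.w, F4.w, F4.w2, F4.w2; F4.o, F4.w2, F4.z, F4.w, F4.w, F4.w2; F4.z, F4.o, F4.w, F4.o, F4.w, F4.w2; F4.o, F4.z, F4.z, F4.w, F4.w, F4.z; F4.z, F4.w, F4.z, F4.w, F4.w, F4.w; F4.w2, F4.z, F4.w2, F4.o, F4.w, F4.z]

theorem s92 : x49 * x46 = x50 := mul_eq_of _ _ _ (by decide)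

theorem p82 : x46 ^ 8 = x50 := by
  rw [pow_succ, p81]
  exact s92

theorem s93 : x50 * x46 = x3 := mul_eq_of _ _ _ (by decide)

theorem p83 : x46 ^ 9 = x3 := by
  rw [pow_succ, p82]
  exact s93

theorem s94 : x3 * x46 = x22 := mul_eq_of _ _ _ (by decide)

theorem p84 : x46 ^ 10 = x22 := by
  rw [pow_succ, p83]
  exact s94

/-- a product -/
def x51 : M6 := !![F4.w2, F4.z, F4.z, F4.o, F4.o, F4.z; F4.o, F4.o, F4.z, F4.w2, F4.z, F4.o; F4.o, F4.w2, F4.z, F4.w2, F4.o, F4.o; F4.w, F4.z, F4.z, F4.z, F4.w2, F4.o; F4.z, F4.w2, F4.z, F4.o, F4.o, F4.o; F4.z, F4.w, F4.w, F4.w, F4.z, F4.o]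

theorem s95 : x22 * x46 = x51 := mul_eq_of _ _ _ (by decide)

theorem p85 : x46 ^ 11 = x51 := by
  rw [pow_succ, p84]
  exact s95

theorem s96 : x51 * x46 = x1 := mul_eq_of _ _ _ (by decide)

theorem p86 : x46 ^ 12 = x1 := by
  rw [pow_succ, p85]
  exact s96

/-- a product -/
def x52 : M6 := !![F4.w, F4.z, F4.w, F4.o, F4.w2, F4.w2; F4.w, F4.w, F4.o, F4.z, F4.z, F4.w; F4.w2, F4.w2, F4.w, F4.w, F4.w2, F4.o; F4.o, F4.o, F4.w2, F4.z, F4.w, F4.w; F4.o, F4.w2, F4.w2, F4.w, F4.z, F4.w2; F4.o, F4.w2, F4.w, F4.w, F4.o, F4.o]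

theorem s97 : x1 * x46 = x52 := mul_eq_of _ _ _ (by decide)

theorem p87 : x46 ^ 13 = x52 := by
  rw [pow_succ, p86]
  exact s97

/-- a product -/
def x53 : M6 := !![F4.o, F4.z, F4.z, F4.z, F4.w, F4.w2; F4.o, F4.o, F4.w, F4.w2, F4.o, F4.o; F4.o, F4.w, F4.w2, F4.z, F4.z, F4.w; F4.o, F4.z, F4.w2, F4.w, F4.w, F4.w; F4.o, F4.z, F4.w, F4.z, F4.z, F4.o; F4.w, F4.z, F4.w, F4.w, F4.w, F4.w2]

theorem s98 : x52 * x46 = x53 := mul_eq_of _ _ _ (by decide)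

theorem p88 : x46 ^ 14 = x53 := by
  rw [pow_succ, p87]
  exact s98

theorem s99 : x53 * x46 = (1 : M6) := mul_eq_of _ _ _ (by decide)

theorem p89 : x46 ^ 15 = (1 : M6) := by
  rw [pow_succ, p88]
  exact s99

/-- the matrix of the word abde, of order 15 -/
theorem o15_ev : ev [0, 1, 3, 4] = x46 := e29

theorem o15_pow : x46 ^ 15 = 1 := p89

theorem o15_pow_5_ne : x46 ^ 5 ≠ 1 := by
  rw [p79]
  exact ne_of_entry _ _ 0 0 (by decide)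

theorem o15_pow_3_ne : x46 ^ 3 ≠ 1 := by
  rw [p77]
  exact ne_of_entry _ _ 0 0 (by decide)

/-- a product -/
def x54 : M6 := !![F4.w, F4.w2, F4.w2, F4.w2, F4.w, F4.o; F4.w, F4.w, F4.w, F4.z, F4.o, F4.o; F4.w2, F4.z, F4.o, F4.z, F4.w2, F4.w2; F4.w, F4.z, F4.w, F4.o, F4.o, F4.w; F4.o, F4.w2, F4.w, F4.w, F4.w2, F4.w2; F4.o, F4.o, F4.z, F4.w2, F4.w2, F4.w]

theorem s100 : gD * x25 = x54 := mul_eq_of _ _ _ (by decide)

theorem e30 : ev [3, 4, 5] = x54 := by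
  rw [ev_cons, e19]
  exact s100

/-- a product -/
def x55 : M6 := !![F4.o, F4.o, F4.w, F4.w, F4.z, F4.w2; F4.z, F4.z, F4.w, F4.z, F4.w, F4.w; F4.o, F4.w2, F4.z, F4.o, F4.w2, F4.w2; F4.w2, F4.w, F4.o, F4.w, F4.o, F4.w; F4.o, F4.w2, F4.w, F4.w, F4.w2, F4.w2; F4.w, F4.o, F4.w2, F4.z, F4.z, F4.o]

theorem s101 : gC * x54 = x55 := mul_eq_of _ _ _ (by decide)

theorem e31 : ev [2, 3, 4, 5] = x55 := by
  rw [ev_cons, e30]
  exact s101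

/-- a product -/
def x56 : M6 := !![F4.z, F4.z, F4.w2, F4.w, F4.z, F4.z; F4.w2, F4.w2, F4.o, F4.z, F4.w, F4.z; F4.w, F4.z, F4.w, F4.z, F4.o, F4.w; F4.w2, F4.w, F4.z, F4.w2, F4.w2, F4.o; F4.z, F4.w, F4.z, F4.o, F4.w, F4.w; F4.z, F4.w2, F4.w2, F4.w, F4.w2, F4.o]

theorem s102 : gB * x55 = x56 := mul_eq_of _ _ _ (by decide)

theorem e32 : ev [1, 2, 3, 4, 5] = x56 := by
  rw [ev_cons, e31]
  exact s102

/-- a product -/
def x57 : M6 := !![F4.w2, F4.w, F4.w2, F4.z, F4.o, F4.w2; F4.z, F4.z, F4.z, F4.z, F4.o, F4.z; F4.o, F4.w, F4.w, F4.w, F4.z, F4.o; F4.w2, F4.o, F4.w2, F4.w, F4.w, F4.w2; F4.z, F4.w, F4.z, F4.o, F4.w, F4.w; F4.z, F4.z, F4.z, F4.w2, F4.w, F4.w2]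

theorem s103 : gA * x56 = x57 := mul_eq_of _ _ _ (by decide)

theorem e33 : ev [0, 1, 2, 3, 4, 5] = x57 := by
  rw [ev_cons, e32]
  exact s103

theorem p90 : x57 ^ 1 = x57 := pow_one _

/-- a product -/
def x58 : M6 := !![F4.o, F4.w, F4.w2, F4.w, F4.w, F4.o; F4.z, F4.w, F4.z, F4.o, F4.w, F4.w; F4.z, F4.w2, F4.o, F4.w2, F4.w, F4.w2; F4.z, F4.o, F4.w, F4.w, F4.w2, F4.o; F4.w2, F4.w, F4.w2, F4.o, F4.z, F4.o; F4.w, F4.z, F4.w, F4.o, F4.w2, F4.w2]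

theorem s104 : x57 * x57 = x58 := mul_eq_of _ _ _ (by decide)

theorem p91 : x57 ^ 2 = x58 := by
  rw [pow_succ, p90]
  exact s104

/-- a product -/
def x59 : M6 := !![F4.o, F4.w, F4.w2, F4.w2, F4.o, F4.o; F4.w2, F4.w, F4.w2, F4.o, F4.z, F4.o; F4.w2, F4.w, F4.z, F4.w2, F4.z, F4.w; F4.w2, F4.z, F4.w, F4.z, F4.o, F4.o; F4.w, F4.o, F4.z, F4.z, F4.o, F4.o; F4.z, F4.z, F4.o, F4.z, F4.z, F4.w2]

theorem s105 : x58 * x57 = x59 := mul_eq_of _ _ _ (by decide)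

theorem p92 : x57 ^ 3 = x59 := by
  rw [pow_succ, p91]
  exact s105

/-- a product -/
def x60 : M6 := !![F4.w, F4.w, F4.z, F4.w, F4.w, F4.w2; F4.w, F4.o, F4.z, F4.z, F4.o, F4.o; F4.z, F4.w, F4.z, F4.z, F4.w2, F4.o; F4.z, F4.z, F4.o, F4.o, F4.w2, F4.o; F4.o, F4.o, F4.o, F4.w, F4.w2, F4.z; F4.o, F4.w, F4.w, F4.z, F4.o, F4.w2]

theorem s106 : x59 * x57 = x60 := mul_eq_of _ _ _ (by decide)

theorem p93 : x57 ^ 4 = x60 := by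
  rw [pow_succ, p92]
  exact s106

/-- a product -/
def x61 : M6 := !![F4.z, F4.w, F4.z, F4.w2, F4.o, F4.o; F4.o, F4.o, F4.o, F4.w, F4.w2, F4.z; F4.z, F4.o, F4.z, F4.z, F4.o, F4.w; F4.w, F4.w, F4.o, F4.z, F4.o, F4.z; F4.w2, F4.w2, F4.z, F4.w, F4.w, F4.w; F4.o, F4.w2, F4.z, F4.z, F4.z, F4.o]

theorem s107 : x60 * x57 = x61 := mul_eq_of _ _ _ (by decide)

theorem p94 : x57 ^ 5 = x61 := by
  rw [pow_succ, p93]
  exact s107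

/-- a product -/
def x62 : M6 := !![F4.w, F4.o, F4.w, F4.w2, F4.w2, F4.w2; F4.w2, F4.w2, F4.z, F4.w, F4.w, F4.w; F4.z, F4.w, F4.z, F4.z, F4.z, F4.w2; F4.z, F4.w2, F4.w2, F4.w2, F4.w, F4.w; F4.w2, F4.z, F4.w2, F4.z, F4.w2, F4.o; F4.w2, F4.w, F4.w2, F4.w2, F4.z, F4.z]

theorem s108 : x61 * x57 = x62 := mul_eq_of _ _ _ (by decide)

theorem p95 : x57 ^ 6 = x62 := by
  rw [pow_succ, p94]
  exact s108

/-- a product -/
def x63 : M6 := !![F4.o, F4.w, F4.z, F4.w2, F4.w, F4.w; F4.w2, F4.z, F4.w2, F4.z, F4.w2, F4.o; F4.z, F4.z, F4.z, F4.w, F4.w2, F4.w; F4.o, F4.o, F4.w2, F4.w2, F4.w, F4.w2; F4.o, F4.o, F4.w2, F4.o, F4.z, F4.w2; F4.w2, F4.w2, F4.o, F4.z, F4.z, F4.w2]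

theorem s109 : x62 * x57 = x63 := mul_eq_of _ _ _ (by decide)

theorem p96 : x57 ^ 7 = x63 := by
  rw [pow_succ, p95]
  exact s109

/-- a product -/
def x64 : M6 := !![F4.o, F4.w, F4.o, F4.w, F4.w, F4.w2; F4.o, F4.o, F4.w2, F4.o, F4.z, F4.w2; F4.o, F4.w2, F4.o, F4.o, F4.o, F4.o; F4.w, F4.w2, F4.z, F4.z, F4.w2, F4.w2; F4.w2, F4.w, F4.o, F4.o, F4.w2, F4.o; F4.w2, F4.w2, F4.z, F4.z, F4.o, F4.o]

theorem s110 : x63 * x57 = x64 := mul_eq_of _ _ _ (by decide)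

theorem p97 : x57 ^ 8 = x64 := by
  rw [pow_succ, p96]
  exact s110

/-- a product -/
def x65 : M6 := !![F4.w2, F4.o, F4.z, F4.o, F4.w, F4.w; F4.w2, F4.w, F4.o, F4.o, F4.w2, F4.o; F4.o, F4.w2, F4.w, F4.w, F4.z, F4.z; F4.o, F4.w, F4.o, F4.o, F4.o, F4.w; F4.z, F4.w2, F4.w2, F4.z, F4.z, F4.w; F4.w, F4.w2, F4.w, F4.w, F4.z, F4.w2]

theorem s111 : x64 * x57 = x65 := mul_eq_of _ _ _ (by decide)

theorem p98 : x57 ^ 9 = x65 := by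
  rw [pow_succ, p97]
  exact s111

/-- a product -/
def x66 : M6 := !![F4.o, F4.w2, F4.o, F4.o, F4.z, F4.w2; F4.z, F4.w2, F4.w2, F4.z, F4.z, F4.w; F4.z, F4.w2, F4.o, F4.z, F4.o, F4.z; F4.o, F4.w2, F4.w, F4.z, F4.z, F4.w; F4.w2, F4.o, F4.o, F4.z, F4.z, F4.w; F4.w, F4.w, F4.w2, F4.w, F4.w2, F4.z]

theorem s112 : x65 * x57 = x66 := mul_eq_of _ _ _ (by decide)

theorem p99 : x57 ^ 10 = x66 := by
  rw [pow_succ, p98]
  exact s112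

/-- a product -/
def x67 : M6 := !![F4.o, F4.o, F4.w, F4.w, F4.o, F4.w2; F4.w2, F4.o, F4.o, F4.z, F4.z, F4.w; F4.o, F4.z, F4.w, F4.w2, F4.o, F4.w2; F4.o, F4.o, F4.z, F4.w, F4.o, F4.z; F4.w2, F4.w2, F4.z, F4.w2, F4.o, F4.w; F4.w2, F4.o, F4.o, F4.o, F4.w, F4.w]

theorem s113 : x66 * x57 = x67 := mul_eq_of _ _ _ (by decide)

theorem p100 : x57 ^ 11 = x67 := by
  rw [pow_succ, p99]
  exact s113

/-- a product -/
def x68 : M6 := !![F4.z, F4.o, F4.o, F4.w2, F4.z, F4.z; F4.w2, F4.w2, F4.z, F4.w2, F4.o, F4.w; F4.w2, F4.z, F4.w, F4.o, F4.w2, F4.w2; F4.w, F4.w, F4.w, F4.w, F4.o, F4.z; F4.z, F4.z, F4.z, F4.o, F4.z, F4.w2; F4.z, F4.o, F4.w2, F4.w2, F4.z, F4.w]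

theorem s114 : x67 * x57 = x68 := mul_eq_of _ _ _ (by decide)

theorem p101 : x57 ^ 12 = x68 := by
  rw [pow_succ, p100]
  exact s114

/-- a product -/
def x69 : M6 := !![F4.w2, F4.o, F4.z, F4.w2, F4.z, F4.w2; F4.z, F4.z, F4.z, F4.o, F4.z, F4.w2; F4.w2, F4.w, F4.w, F4.z, F4.o, F4.z; F4.w, F4.z, F4.w2, F4.o, F4.o, F4.z; F4.w2, F4.o, F4.w2, F4.z, F4.w2, F4.o; F4.o, F4.w, F4.w2, F4.o, F4.w2, F4.z]

theorem s115 : x68 * x57 = x69 := mul_eq_of _ _ _ (by decide)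

theorem p102 : x57 ^ 13 = x69 := by
  rw [pow_succ, p101]
  exact s115

/-- a product -/
def x70 : M6 := !![F4.z, F4.w, F4.z, F4.w2, F4.w, F4.w; F4.w2, F4.o, F4.w2, F4.z, F4.w2, F4.o; F4.z, F4.z, F4.o, F4.w, F4.w2, F4.w; F4.o, F4.o, F4.w2, F4.w, F4.w, F4.w2; F4.o, F4.o, F4.w2, F4.o, F4.o, F4.w2; F4.w2, F4.w2, F4.o, F4.z, F4.z, F4.w]

theorem s116 : x69 * x57 = x70 := mul_eq_of _ _ _ (by decide)

theorem p103 : x57 ^ 14 = x70 := by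
  rw [pow_succ, p102]
  exact s116

/-- a product -/
def x71 : M6 := !![F4.w, F4.z, F4.w, F4.w, F4.w2, F4.z; F4.o, F4.o, F4.w2, F4.o, F4.o, F4.w2; F4.z, F4.o, F4.w2, F4.w2, F4.o, F4.z; F4.o, F4.w, F4.w2, F4.w, F4.o, F4.z; F4.w2, F4.z, F4.o, F4.z, F4.o, F4.w2; F4.w2, F4.w2, F4.z, F4.w2, F4.w2, F4.w]

theorem s117 : x70 * x57 = x71 := mul_eq_of _ _ _ (by decide)

theorem p104 : x57 ^ 15 = x71 := by
  rw [pow_succ, p103]
  exact s117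

/-- a product -/
def x72 : M6 := !![F4.w, F4.w2, F4.w2, F4.w2, F4.z, F4.w2; F4.w2, F4.z, F4.o, F4.z, F4.o, F4.w2; F4.o, F4.z, F4.w2, F4.o, F4.w, F4.w2; F4.o, F4.w2, F4.w2, F4.w2, F4.w, F4.w2; F4.w2, F4.o, F4.z, F4.o, F4.z, F4.w2; F4.z, F4.w2, F4.z, F4.w2, F4.w2, F4.z]

theorem s118 : x71 * x57 = x72 := mul_eq_of _ _ _ (by decide)

theorem p105 : x57 ^ 16 = x72 := by
  rw [pow_succ, p104]
  exact s118

/-- a product -/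
def x73 : M6 := !![F4.z, F4.o, F4.w, F4.w, F4.o, F4.w; F4.w2, F4.o, F4.z, F4.o, F4.z, F4.w2; F4.w2, F4.o, F4.o, F4.w2, F4.o, F4.w; F4.w, F4.w2, F4.z, F4.z, F4.o, F4.w2; F4.o, F4.z, F4.o, F4.z, F4.o, F4.w2; F4.w, F4.w, F4.w, F4.w, F4.w2, F4.w2]

theorem s119 : x72 * x57 = x73 := mul_eq_of _ _ _ (by decide)

theorem p106 : x57 ^ 17 = x73 := by
  rw [pow_succ, p105]
  exact s119

/-- a product -/
def x74 : M6 := !![F4.w2, F4.w2, F4.w, F4.z, F4.w2, F4.z; F4.o, F4.z, F4.o, F4.z, F4.o, F4.w2; F4.o, F4.w, F4.w, F4.w2, F4.w, F4.w; F4.o, F4.o, F4.o, F4.w2, F4.w, F4.o; F4.w, F4.w, F4.o, F4.o, F4.w, F4.w; F4.w, F4.w2, F4.w2, F4.o, F4.w2, F4.o]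

theorem s120 : x73 * x57 = x74 := mul_eq_of _ _ _ (by decide)

theorem p107 : x57 ^ 18 = x74 := by
  rw [pow_succ, p106]
  exact s120

/-- a product -/
def x75 : M6 := !![F4.z, F4.w2, F4.o, F4.z, F4.o, F4.o; F4.w, F4.w, F4.o, F4.o, F4.w, F4.w; F4.w2, F4.o, F4.w, F4.o, F4.w, F4.o; F4.z, F4.z, F4.w2, F4.w, F4.z, F4.z; F4.w2, F4.w2, F4.z, F4.w2, F4.w, F4.o; F4.o, F4.w, F4.w2, F4.w2, F4.z, F4.w2]

theorem s121 : x74 * x57 = x75 := mul_eq_of _ _ _ (by decide)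

theorem p108 : x57 ^ 19 = x75 := by
  rw [pow_succ, p107]
  exact s121

/-- a product -/
def x76 : M6 := !![F4.o, F4.z, F4.w, F4.z, F4.w2, F4.z; F4.w2, F4.w2, F4.z, F4.w2, F4.w, F4.o; F4.w2, F4.z, F4.w, F4.z, F4.o, F4.w2; F4.w, F4.w2, F4.z, F4.w, F4.w2, F4.w; F4.z, F4.o, F4.z, F4.z, F4.z, F4.z; F4.w, F4.z, F4.z, F4.w, F4.w2, F4.z]

theorem s122 : x75 * x57 = x76 := mul_eq_of _ _ _ (by decide)

theorem p109 : x57 ^ 20 = x76 := by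
  rw [pow_succ, p108]
  exact s122

theorem s123 : x76 * x57 = (1 : M6) := mul_eq_of _ _ _ (by decide)

theorem p110 : x57 ^ 21 = (1 : M6) := by
  rw [pow_succ, p109]
  exact s123

/-- the matrix of the word abcdef, of order 21 -/
theorem o21_ev : ev [0, 1, 2, 3, 4, 5] = x57 := e33

theorem o21_pow : x57 ^ 21 = 1 := p110

theorem o21_pow_7_ne : x57 ^ 7 ≠ 1 := by
  rw [p96]
  exact ne_of_entry _ _ 0 1 (by decide)

theorem o21_pow_3_ne : x57 ^ 3 ≠ 1 := by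
  rw [p92]
  exact ne_of_entry _ _ 0 1 (by decide)

/-- a product -/
def x77 : M6 := !![F4.o, F4.z, F4.w, F4.w2, F4.o, F4.o; F4.z, F4.z, F4.o, F4.z, F4.w2, F4.o; F4.z, F4.z, F4.z, F4.w, F4.w2, F4.z; F4.w2, F4.w, F4.z, F4.w2, F4.w2, F4.o; F4.o, F4.o, F4.w, F4.w2, F4.o, F4.o; F4.w, F4.w2, F4.o, F4.z, F4.o, F4.w2]

theorem s124 : gB * x54 = x77 := mul_eq_of _ _ _ (by decide)

theorem e34 : ev [1, 3, 4, 5] = x77 := by
  rw [ev_cons, e30]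
  exact s124

/-- a product -/
def x78 : M6 := !![F4.w, F4.w2, F4.w2, F4.o, F4.w, F4.w; F4.o, F4.o, F4.z, F4.z, F4.w2, F4.w; F4.z, F4.z, F4.w, F4.z, F4.z, F4.o; F4.w2, F4.w, F4.o, F4.w, F4.o, F4.w; F4.o, F4.o, F4.w, F4.w2, F4.o, F4.o; F4.w2, F4.w, F4.o, F4.o, F4.w2, F4.w2]

theorem s125 : gC * x77 = x78 := mul_eq_of _ _ _ (by decide)

theorem e35 : ev [2, 1, 3, 4, 5] = x78 := by
  rw [ev_cons, e34]
  exact s125

/-- a product -/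
def x79 : M6 := !![F4.z, F4.o, F4.w2, F4.o, F4.o, F4.o; F4.z, F4.z, F4.z, F4.z, F4.o, F4.z; F4.z, F4.w2, F4.o, F4.w2, F4.w, F4.w2; F4.w, F4.z, F4.w, F4.o, F4.o, F4.w; F4.z, F4.w, F4.z, F4.o, F4.w, F4.w; F4.w, F4.w, F4.z, F4.z, F4.w, F4.w]

theorem s126 : gB * x78 = x79 := mul_eq_of _ _ _ (by decide)

theorem e36 : ev [1, 2, 1, 3, 4, 5] = x79 := by
  rw [ev_cons, e35]
  exact s126

/-- a product -/
def x80 : M6 := !![F4.w2, F4.w2, F4.w2, F4.w2, F4.z, F4.w; F4.w2, F4.w2, F4.o, F4.z, F4.w, F4.z; F4.w2, F4.o, F4.o, F4.o, F4.w2, F4.z; F4.w, F4.w2, F4.o, F4.z, F4.z, F4.z; F4.z, F4.w, F4.z, F4.o, F4.w, F4.w; F4.w, F4.o, F4.w2, F4.o, F4.w2, F4.z]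

theorem s127 : gA * x79 = x80 := mul_eq_of _ _ _ (by decide)

theorem e37 : ev [0, 1, 2, 1, 3, 4, 5] = x80 := by
  rw [ev_cons, e36]
  exact s127

theorem p111 : x80 ^ 1 = x80 := pow_one _

/-- a product -/
def x81 : M6 := !![F4.z, F4.w2, F4.z, F4.w2, F4.w, F4.o; F4.w2, F4.w, F4.z, F4.o, F4.o, F4.w; F4.z, F4.w, F4.w2, F4.z, F4.z, F4.z; F4.z, F4.w, F4.w2, F4.z, F4.w, F4.w2; F4.z, F4.w2, F4.w, F4.z, F4.o, F4.w2; F4.w, F4.w2, F4.w, F4.o, F4.o, F4.w]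

theorem s128 : x80 * x80 = x81 := mul_eq_of _ _ _ (by decide)

theorem p112 : x80 ^ 2 = x81 := by
  rw [pow_succ, p111]
  exact s128

/-- a product -/
def x82 : M6 := !![F4.o, F4.w, F4.w2, F4.w2, F4.o, F4.w2; F4.w, F4.z, F4.z, F4.o, F4.z, F4.w2; F4.w2, F4.w, F4.o, F4.w2, F4.o, F4.z; F4.w, F4.w, F4.w2, F4.w, F4.z, F4.w2; F4.w, F4.o, F4.w2, F4.z, F4.z, F4.w; F4.w2, F4.w, F4.z, F4.z, F4.w2, F4.o]

theorem s129 : x81 * x80 = x82 := mul_eq_of _ _ _ (by decide)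

theorem p113 : x80 ^ 3 = x82 := by
  rw [pow_succ, p112]
  exact s129

/-- a product -/
def x83 : M6 := !![F4.z, F4.w, F4.w2, F4.w, F4.o, F4.z; F4.w, F4.o, F4.w, F4.w, F4.w, F4.w2; F4.o, F4.w, F4.w, F4.w, F4.w, F4.w2; F4.z, F4.o, F4.z, F4.o, F4.w2, F4.w2; F4.w2, F4.w2, F4.w, F4.z, F4.o, F4.w2; F4.o, F4.w2, F4.w2, F4.z, F4.o, F4.z]

theorem s130 : x82 * x80 = x83 := mul_eq_of _ _ _ (by decide)

theorem p114 : x80 ^ 4 = x83 := by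
  rw [pow_succ, p113]
  exact s130

/-- a product -/
def x84 : M6 := !![F4.z, F4.o, F4.w2, F4.w, F4.w2, F4.w; F4.o, F4.o, F4.w, F4.w, F4.w, F4.z; F4.o, F4.o, F4.w2, F4.z, F4.w2, F4.o; F4.z, F4.w, F4.w, F4.z, F4.o, F4.o; F4.z, F4.w2, F4.o, F4.w, F4.z, F4.w2; F4.w2, F4.z, F4.w2, F4.o, F4.o, F4.z]

theorem s131 : x83 * x80 = x84 := mul_eq_of _ _ _ (by decide)

theorem p115 : x80 ^ 5 = x84 := by
  rw [pow_succ, p114]
  exact s131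

/-- a product -/
def x85 : M6 := !![F4.o, F4.w, F4.o, F4.w, F4.z, F4.o; F4.w, F4.z, F4.w, F4.w2, F4.z, F4.o; F4.z, F4.w2, F4.w, F4.w, F4.w, F4.w2; F4.w, F4.z, F4.w2, F4.w, F4.w2, F4.w; F4.w2, F4.o, F4.w, F4.w, F4.z, F4.z; F4.w, F4.z, F4.z, F4.z, F4.z, F4.w2]

theorem s132 : x84 * x80 = x85 := mul_eq_of _ _ _ (by decide)

theorem p116 : x80 ^ 6 = x85 := by
  rw [pow_succ, p115]
  exact s132

/-- a product -/
def x86 : M6 := !![F4.z, F4.w2, F4.o, F4.w2, F4.w2, F4.w; F4.w2, F4.z, F4.w2, F4.w, F4.w, F4.w2; F4.o, F4.o, F4.o, F4.w2, F4.o, F4.w2; F4.w2, F4.z, F4.o, F4.w2, F4.w, F4.w; F4.w2, F4.w, F4.w2, F4.z, F4.w2, F4.o; F4.z, F4.w, F4.w2, F4.w, F4.w, F4.w2]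

theorem s133 : x85 * x80 = x86 := mul_eq_of _ _ _ (by decide)

theorem p117 : x80 ^ 7 = x86 := by
  rw [pow_succ, p116]
  exact s133

/-- a product -/
def x87 : M6 := !![F4.w2, F4.w, F4.z, F4.z, F4.w, F4.o; F4.w, F4.z, F4.o, F4.z, F4.w2, F4.w; F4.w2, F4.w, F4.w, F4.z, F4.o, F4.z; F4.w2, F4.z, F4.o, F4.w2, F4.o, F4.w; F4.w2, F4.z, F4.z, F4.w2, F4.w2, F4.z; F4.o, F4.w2, F4.o, F4.w, F4.z, F4.w2]

theorem s134 : x86 * x80 = x87 := mul_eq_of _ _ _ (by decide)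

theorem p118 : x80 ^ 8 = x87 := by
  rw [pow_succ, p117]
  exact s134

/-- a product -/
def x88 : M6 := !![F4.o, F4.o, F4.w2, F4.o, F4.w2, F4.w; F4.o, F4.w2, F4.o, F4.o, F4.w2, F4.w; F4.w, F4.w2, F4.w, F4.o, F4.z, F4.w2; F4.w2, F4.o, F4.o, F4.z, F4.z, F4.w2; F4.w2, F4.o, F4.o, F4.o, F4.o, F4.z; F4.z, F4.w, F4.o, F4.o, F4.z, F4.w]

theorem s135 : x87 * x80 = x88 := mul_eq_of _ _ _ (by decide)

theorem p119 : x80 ^ 9 = x88 := by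
  rw [pow_succ, p118]
  exact s135

/-- a product -/
def x89 : M6 := !![F4.w2, F4.w2, F4.o, F4.o, F4.z, F4.w2; F4.w2, F4.z, F4.o, F4.w2, F4.w, F4.w2; F4.o, F4.o, F4.w2, F4.z, F4.w, F4.w2; F4.w2, F4.w2, F4.z, F4.z, F4.w2, F4.o; F4.z, F4.o, F4.w2, F4.w, F4.w2, F4.w2; F4.w2, F4.o, F4.w2, F4.w2, F4.o, F4.z]

theorem s136 : x88 * x80 = x89 := mul_eq_of _ _ _ (by decide)

theorem p120 : x80 ^ 10 = x89 := by
  rw [pow_succ, p119]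
  exact s136

/-- a product -/
def x90 : M6 := !![F4.z, F4.o, F4.w2, F4.z, F4.z, F4.o; F4.o, F4.o, F4.w, F4.w, F4.w, F4.w; F4.w2, F4.w2, F4.w2, F4.o, F4.o, F4.o; F4.w, F4.z, F4.w, F4.z, F4.w2, F4.z; F4.w2, F4.w2, F4.w, F4.w2, F4.w2, F4.o; F4.w, F4.w, F4.w2, F4.z, F4.w, F4.w2]

theorem s137 : x89 * x80 = x90 := mul_eq_of _ _ _ (by decide)

theorem p121 : x80 ^ 11 = x90 := by
  rw [pow_succ, p120]
  exact s137

/-- a product -/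
def x91 : M6 := !![F4.w2, F4.o, F4.o, F4.w, F4.w2, F4.z; F4.o, F4.w, F4.w2, F4.o, F4.o, F4.o; F4.w, F4.w2, F4.z, F4.o, F4.w, F4.w2; F4.z, F4.w, F4.w2, F4.z, F4.z, F4.w; F4.w, F4.z, F4.w2, F4.w, F4.w, F4.z; F4.w2, F4.w2, F4.w, F4.w2, F4.z, F4.z]

theorem s138 : x90 * x80 = x91 := mul_eq_of _ _ _ (by decide)

theorem p122 : x80 ^ 12 = x91 := by
  rw [pow_succ, p121]
  exact s138

theorem s139 : x91 * x80 = (1 : M6) := mul_eq_of _ _ _ (by decide)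

theorem p123 : x80 ^ 13 = (1 : M6) := by
  rw [pow_succ, p122]
  exact s139

/-- the matrix of the word abcbdef, of order 13 -/
theorem o13_ev : ev [0, 1, 2, 1, 3, 4, 5] = x80 := e37

theorem o13_pow : x80 ^ 13 = 1 := p123

theorem o13_pow_1_ne : x80 ^ 1 ≠ 1 := by
  rw [p111]
  exact ne_of_entry _ _ 0 0 (by decide)

/-- the matrix of order 7 -/
abbrev At : M6 := x59

/-- the matrix of order 13 -/
abbrev As : M6 := x80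

theorem p124 : x59 ^ 1 = x59 := pow_one _

theorem s140 : x59 * x59 = x62 := mul_eq_of _ _ _ (by decide)

theorem p125 : x59 ^ 2 = x62 := by
  rw [pow_succ, p124]
  exact s140

theorem s141 : x62 * x59 = x65 := mul_eq_of _ _ _ (by decide)

theorem p126 : x59 ^ 3 = x65 := by
  rw [pow_succ, p125]
  exact s141

theorem s142 : x65 * x59 = x68 := mul_eq_of _ _ _ (by decide)

theorem p127 : x59 ^ 4 = x68 := by
  rw [pow_succ, p126]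
  exact s142

theorem s143 : x68 * x59 = x71 := mul_eq_of _ _ _ (by decide)

theorem p128 : x59 ^ 5 = x71 := by
  rw [pow_succ, p127]
  exact s143

theorem s144 : x71 * x59 = x74 := mul_eq_of _ _ _ (by decide)

theorem p129 : x59 ^ 6 = x74 := by
  rw [pow_succ, p128]
  exact s144

theorem s145 : x74 * x59 = (1 : M6) := mul_eq_of _ _ _ (by decide)

theorem p130 : x59 ^ 7 = (1 : M6) := by
  rw [pow_succ, p129]
  exact s145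

theorem At_pow : At ^ 7 = 1 := p130

theorem At_ne : At ≠ 1 := ne_of_entry _ _ 0 1 (by decide)

theorem As_pow : As ^ 13 = 1 := o13_pow

theorem As_ne : As ≠ 1 := ne_of_entry _ _ 0 0 (by decide)

theorem o21_pow_3 : x57 ^ 3 = At := p92

/-- a cyclic vector and its images -/
def ct_vs : Fin 6 → Fin 6 → F4 := ![![F4.o, F4.z, F4.z, F4.z, F4.z, F4.z], ![F4.o, F4.w2, F4.w2, F4.w2, F4.w, F4.z], ![F4.w, F4.w2, F4.z, F4.z, F4.w2, F4.w2], ![F4.w2, F4.w2, F4.o, F4.o, F4.z, F4.w], ![F4.z, F4.w2, F4.w2, F4.w, F4.z, F4.z], ![F4.w, F4.o, F4.z, F4.o, F4.w2, F4.w2]]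

theorem ct_vs_1 : ct_vs 1 = x59 *ᵥ ct_vs 0 := (mulVec_eq_of _ _ _ (by decide)).symm

theorem ct_vs_2 : ct_vs 2 = x59 *ᵥ ct_vs 1 := (mulVec_eq_of _ _ _ (by decide)).symm

theorem ct_vs_3 : ct_vs 3 = x59 *ᵥ ct_vs 2 := (mulVec_eq_of _ _ _ (by decide)).symm

theorem ct_vs_4 : ct_vs 4 = x59 *ᵥ ct_vs 3 := (mulVec_eq_of _ _ _ (by decide)).symm

theorem ct_vs_5 : ct_vs 5 = x59 *ᵥ ct_vs 4 := (mulVec_eq_of _ _ _ (by decide)).symm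

/-- the inverse of the matrix of the images of the cyclic vector -/
def ct_D : M6 := !![F4.o, F4.w2, F4.z, F4.o, F4.z, F4.z; F4.z, F4.o, F4.z, F4.w, F4.w, F4.w2; F4.z, F4.z, F4.w2, F4.o, F4.w2, F4.o; F4.z, F4.o, F4.z, F4.w, F4.o, F4.z; F4.z, F4.w2, F4.w, F4.o, F4.z, F4.w2; F4.z, F4.w2, F4.w2, F4.z, F4.z, F4.w2]

theorem ct_D_mul : ct_D * (Matrix.of fun i j => ct_vs j i) = 1 := mul_eq_of _ _ _ (by decide)

/-- the matrix minus one -/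
def ct_I : M6 := !![F4.z, F4.w, F4.w2, F4.w2, F4.o, F4.o; F4.w2, F4.w2, F4.w2, F4.o, F4.z, F4.o; F4.w2, F4.w, F4.o, F4.w2, F4.z, F4.w; F4.w2, F4.z, F4.w, F4.o, F4.o, F4.o; F4.w, F4.o, F4.z, F4.z, F4.z, F4.o; F4.z, F4.z, F4.o, F4.z, F4.z, F4.w]

theorem ct_sub_one : x59 - 1 = ct_I := sub_one_eq_of _ _ (by decide)

/-- the inverse of the matrix minus one -/
def ct_E : M6 := !![F4.z, F4.w2, F4.o, F4.z, F4.z, F4.w2; F4.o, F4.o, F4.o, F4.o, F4.w, F4.w2; F4.w, F4.z, F4.o, F4.w, F4.o, F4.w; F4.w2, F4.z, F4.z, F4.w2, F4.o, F4.w2; F4.o, F4.w, F4.w, F4.z, F4.z, F4.z; F4.o, F4.z, F4.w2, F4.o, F4.w2, F4.w]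

theorem ct_E_mul : ct_E * ct_I = 1 := mul_eq_of _ _ _ (by decide)

/-- a cyclic vector and its images -/
def cs_vs : Fin 6 → Fin 6 → F4 := ![![F4.o, F4.z, F4.z, F4.z, F4.z, F4.z], ![F4.w2, F4.w2, F4.w2, F4.w, F4.z, F4.w], ![F4.z, F4.w2, F4.z, F4.z, F4.z, F4.w], ![F4.o, F4.w, F4.w2, F4.w, F4.w, F4.w2], ![F4.z, F4.w, F4.o, F4.z, F4.w2, F4.o], ![F4.z, F4.o, F4.o, F4.z, F4.z, F4.w2]]

theorem cs_vs_1 : cs_vs 1 = x80 *ᵥ cs_vs 0 := (mulVec_eq_of _ _ _ (by decide)).symm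

theorem cs_vs_2 : cs_vs 2 = x80 *ᵥ cs_vs 1 := (mulVec_eq_of _ _ _ (by decide)).symm

theorem cs_vs_3 : cs_vs 3 = x80 *ᵥ cs_vs 2 := (mulVec_eq_of _ _ _ (by decide)).symm

theorem cs_vs_4 : cs_vs 4 = x80 *ᵥ cs_vs 3 := (mulVec_eq_of _ _ _ (by decide)).symm

theorem cs_vs_5 : cs_vs 5 = x80 *ᵥ cs_vs 4 := (mulVec_eq_of _ _ _ (by decide)).symm

/-- the inverse of the matrix of the images of the cyclic vector -/
def cs_D : M6 := !![F4.o, F4.w2, F4.z, F4.w, F4.z, F4.o; F4.z, F4.w, F4.z, F4.w2, F4.z, F4.w2; F4.z, F4.z, F4.w, F4.z, F4.w, F4.w2; F4.z, F4.w, F4.z, F4.z, F4.z, F4.w2; F4.z, F4.o, F4.z, F4.z, F4.w, F4.w; F4.z, F4.o, F4.o, F4.w, F4.w, F4.w]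

theorem cs_D_mul : cs_D * (Matrix.of fun i j => cs_vs j i) = 1 := mul_eq_of _ _ _ (by decide)

/-- the matrix minus one -/
def cs_I : M6 := !![F4.w, F4.w2, F4.w2, F4.w2, F4.z, F4.w; F4.w2, F4.w, F4.o, F4.z, F4.w, F4.z; F4.w2, F4.o, F4.z, F4.o, F4.w2, F4.z; F4.w, F4.w2, F4.o, F4.o, F4.z, F4.z; F4.z, F4.w, F4.z, F4.o, F4.w2, F4.w; F4.w, F4.o, F4.w2, F4.o, F4.w2, F4.o]

theorem cs_sub_one : x80 - 1 = cs_I := sub_one_eq_of _ _ (by decide)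

/-- the inverse of the matrix minus one -/
def cs_E : M6 := !![F4.w2, F4.w2, F4.w, F4.z, F4.w, F4.w; F4.w2, F4.z, F4.w2, F4.w, F4.w2, F4.z; F4.o, F4.w2, F4.w2, F4.o, F4.o, F4.z; F4.w, F4.w, F4.w, F4.o, F4.z, F4.w2; F4.o, F4.z, F4.w, F4.o, F4.w2, F4.w2; F4.z, F4.o, F4.o, F4.w2, F4.o, F4.w2]

theorem cs_E_mul : cs_E * cs_I = 1 := mul_eq_of _ _ _ (by decide)

end Cfsg.Agent.Lib.H17.G24S.RepData
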