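import Cfsg.Agent.Lib.H17.G24S.Iso
import Cfsg.Agent.Lib.H17.G24S.RepData

set_option autoImplicit false
set_option maxRecDepth 100000

/-! # The six-dimensional representation of the presented group `G₂(4)` over the field with four
elements -/

namespace Cfsg.Agent.Lib.H17.G24S

open Cfsg.Agent.Lib.H17.G24S.RepData Cfsg.Agent.Lib.H17.G24PGlue

theorem mat_sq (x : ℕ) : mat x * mat x = 1 := by
  rcases x with _ | _ | _ | _ | _ | _ | x
  · exact sq_0
  · exact sq_1
  · exact sq_2
  · exact sq_3
  · exact sq_4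
  · exact sq_5
  · exact sq_5

/-- the matrices as units -/
def um (x : ℕ) : GL (Fin 6) F4 := ⟨mat x, mat x, mat_sq x, mat_sq x⟩

theorem um_val (x : ℕ) : ((um x : GL (Fin 6) F4) : M6) = mat x := rfl

theorem mat_idx_gen (x : ℕ) : mat (idx (gen x)) = mat x := by
  rcases x with _ | _ | _ | _ | _ | _ | x <;> rfl

/-- the images of the generators -/
def fρ (u : Gen) : GL (Fin 6) F4 := um (idx u)

theorem fρ_mul_self (u : Gen) : fρ u * fρ u = 1 := by
  apply Units.ext
  rw [Units.val_mul, Units.val_one]
  exact mat_sq _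

theorem val_prod (l : List (GL (Fin 6) F4)) :
    ((l.prod : GL (Fin 6) F4) : M6) = (l.map fun g => ((g : GL (Fin 6) F4) : M6)).prod := by
  induction l with
  | nil => simp
  | cons a l ih => rw [List.prod_cons, Units.val_mul, ih, List.map_cons, List.prod_cons]

theorem val_word (w : List ℕ) :
    ((((w.map gen).map fρ).prod : GL (Fin 6) F4) : M6) = ev w := by
  rw [val_prod, List.map_map, List.map_map]
  unfold ev
  congr 1
  apply List.map_congr_left
  intro x _
  exact mat_idx_gen x

theorem fρ_words : ∀ w ∈ relW, ((w.map gen).map fρ).prod = 1 := by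
  intro w hw
  apply Units.ext
  rw [val_word, Units.val_one]
  exact ev_relW w hw

/-- the representation -/
noncomputable def ρ : P →* GL (Fin 6) F4 :=
  PresentedGroup.toGroup (f := fρ) (lift_rels fρ fρ_mul_self fρ_words)

theorem ρ_of (u : Gen) : ρ (PresentedGroup.of u) = fρ u := PresentedGroup.toGroup.of _

/-- the element of a word -/
noncomputable def ew (w : List ℕ) : P := (w.map fun x => PresentedGroup.of (gen x)).prod

theorem ρ_ew (w : List ℕ) : ((ρ (ew w) : GL (Fin 6) F4) : M6) = ev w := by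
  unfold ew
  rw [map_list_prod, List.map_map, ← val_word, List.map_map]
  congr 2
  apply List.map_congr_left
  intro x _
  exact ρ_of _

/-- the action on the vectors -/
theorem ρ_mul_val (g h : P) :
    ((ρ (g * h) : GL (Fin 6) F4) : M6) = (ρ g : M6) * (ρ h : M6) := by
  rw [map_mul, Units.val_mul]

theorem ρ_pow_val (g : P) (k : ℕ) : ((ρ (g ^ k) : GL (Fin 6) F4) : M6) = (ρ g : M6) ^ k := by
  rw [map_pow, Units.val_pow_eq_pow_val]

theorem ρ_inv_mul (g : P) : ((ρ g⁻¹ : GL (Fin 6) F4) : M6) * (ρ g : M6) = 1 := by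
  rw [← Units.val_mul, ← map_mul, inv_mul_cancel, map_one, Units.val_one]

theorem ρ_mul_inv (g : P) : (ρ g : M6) * ((ρ g⁻¹ : GL (Fin 6) F4) : M6) = 1 := by
  rw [← Units.val_mul, ← map_mul, mul_inv_cancel, map_one, Units.val_one]

end Cfsg.Agent.Lib.H17.G24S
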