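import Mathlib

set_option autoImplicit false

namespace Cfsg.Agent.Lib.H17.G24S.SemiLemmas

open Matrix

section act

variable {n : Type*} [Fintype n] [DecidableEq n] {R : Type*} [CommRing R]

/-- The action of an invertible matrix on the (multiplicative copy of the) column space. -/
def act (g : GL n R) : MulAut (Multiplicative (n → R)) where
  toFun v := Multiplicative.ofAdd ((g : Matrix n n R) *ᵥ v.toAdd)
  invFun v := Multiplicative.ofAdd (((g⁻¹ : GL n R) : Matrix n n R) *ᵥ v.toAdd)
  left_inv v := by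
    show Multiplicative.ofAdd (((g⁻¹ : GL n R) : Matrix n n R) *ᵥ
      ((g : Matrix n n R) *ᵥ v.toAdd)) = v
    rw [Matrix.mulVec_mulVec, ← Units.val_mul, inv_mul_cancel, Units.val_one, Matrix.one_mulVec]
    rfl
  right_inv v := by
    show Multiplicative.ofAdd ((g : Matrix n n R) *ᵥ
      (((g⁻¹ : GL n R) : Matrix n n R) *ᵥ v.toAdd)) = v
    rw [Matrix.mulVec_mulVec, ← Units.val_mul, mul_inv_cancel, Units.val_one, Matrix.one_mulVec]
    rfl
  map_mul' v w := by
    show Multiplicative.ofAdd ((g : Matrix n n R) *ᵥ (v.toAdd + w.toAdd)) = _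
    rw [Matrix.mulVec_add]
    rfl

theorem act_apply (g : GL n R) (v : Multiplicative (n → R)) :
    act g v = Multiplicative.ofAdd ((g : Matrix n n R) *ᵥ v.toAdd) := rfl

/-- `act` as a homomorphism. -/
def actHom : GL n R →* MulAut (Multiplicative (n → R)) where
  toFun := act
  map_one' := by
    ext v
    rw [act_apply, Units.val_one, Matrix.one_mulVec]
    rfl
  map_mul' g h := by
    ext v
    rw [MulAut.mul_apply, act_apply, act_apply, act_apply, Units.val_mul,
      ← Matrix.mulVec_mulVec]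
    rfl

theorem actHom_apply (g : GL n R) (v : Multiplicative (n → R)) :
    actHom g v = Multiplicative.ofAdd ((g : Matrix n n R) *ᵥ v.toAdd) := rfl

end act

section semi

variable {N G : Type*} [CommGroup N] [Group G] (φ : G →* MulAut N)

theorem card_semi [Finite N] [Finite G] : Nat.card (N ⋊[φ] G) = Nat.card N * Nat.card G := by
  rw [Nat.card_congr (SemidirectProduct.equivProd (N := N) (G := G) (φ := φ)), Nat.card_prod]

theorem fix_of_commute (h : N ⋊[φ] G) (n : N)
    (hc : h * SemidirectProduct.inl n = SemidirectProduct.inl n * h) : φ h.right n = n := by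
  have h1 := congrArg SemidirectProduct.left hc
  rw [SemidirectProduct.mul_left, SemidirectProduct.mul_left, SemidirectProduct.left_inl,
    SemidirectProduct.right_inl, map_one, MulAut.one_apply, mul_comm n h.left] at h1
  exact mul_left_cancel h1

/-- Key step: an element `h` of order `2 * q` (`q` an odd prime) of the semidirect product whose
image in `G` has order `q` yields a nontrivial vector fixed by an element of order `q`. -/
theorem exists_fixed (q : ℕ) (hq : q.Prime)
    (h : N ⋊[φ] G) (hh : orderOf h = 2 * q) (hd : orderOf h.right = q) :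
    ∃ n : N, φ h.right n = n ∧ n ≠ 1 := by
  have hker : h ^ q ∈ (SemidirectProduct.rightHom : N ⋊[φ] G →* G).ker := by
    rw [MonoidHom.mem_ker, map_pow, SemidirectProduct.rightHom_eq_right, ← hd]
    exact pow_orderOf_eq_one _
  rw [← SemidirectProduct.range_inl_eq_ker_rightHom] at hker
  obtain ⟨n, hn⟩ := hker
  refine ⟨n, ?_, ?_⟩
  · apply fix_of_commute
    rw [hn]
    exact ((Commute.refl h).pow_right q).eq
  · intro h1
    rw [h1, map_one] at hn
    have h2 : orderOf h ∣ q := orderOf_dvd_of_pow_eq_one hn.symm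
    rw [hh] at h2
    have h3 := Nat.le_of_dvd hq.pos h2
    have := hq.pos
    omega

theorem exists_order_of_semi (hexp : ∀ n : N, n ^ 2 = 1)
    (hfix : ∀ q : ℕ, q.Prime → q ≠ 2 → ∀ g : G, orderOf g = q → ∀ n : N, φ g n = n → n ≠ 1 →
      ∃ g' : G, orderOf g' = 2 * q)
    (p q : ℕ) (hp : p.Prime) (hq : q.Prime) (hpq : p ≠ q)
    (h : N ⋊[φ] G) (hh : orderOf h = p * q) : ∃ g : G, orderOf g = p * q := by
  have hpq0 : 0 < p * q := Nat.mul_pos hp.pos hq.pos
  set d := orderOf h.right with hd
  have hd1 : d ∣ p * q := by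
    rw [← hh, hd, ← SemidirectProduct.rightHom_eq_right]
    exact orderOf_map_dvd _ _
  have hker : h ^ d ∈ (SemidirectProduct.rightHom : N ⋊[φ] G →* G).ker := by
    rw [MonoidHom.mem_ker, map_pow, SemidirectProduct.rightHom_eq_right, hd]
    exact pow_orderOf_eq_one _
  rw [← SemidirectProduct.range_inl_eq_ker_rightHom] at hker
  obtain ⟨n, hn⟩ := hker
  have h2 : h ^ (d * 2) = 1 := by
    rw [pow_mul, ← hn, ← map_pow, hexp, map_one]
  have hd2 : p * q ∣ d * 2 := by
    rw [← hh]
    exact orderOf_dvd_of_pow_eq_one h2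
  obtain ⟨m, hm⟩ := hd1
  have hd0 : 0 < d := Nat.pos_of_ne_zero (by
    intro h0
    rw [h0, zero_mul] at hm
    omega)
  have hm2 : m ∣ 2 := by
    rw [hm] at hd2
    exact Nat.dvd_of_mul_dvd_mul_left hd0 hd2
  have hm12 : m = 1 ∨ m = 2 := by
    have := Nat.le_of_dvd (by norm_num) hm2
    have hm0 : m ≠ 0 := by
      intro h0
      rw [h0, mul_zero] at hm
      omega
    omega
  rcases hm12 with rfl | rfl
  · exact ⟨h.right, by rw [← hd, hm, mul_one]⟩
  · -- `p * q = d * 2`
    have h2pq : 2 ∣ p * q := ⟨d, by rw [hm, mul_comm]⟩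
    rcases (Nat.Prime.dvd_mul Nat.prime_two).1 h2pq with h2p | h2q
    · have hp2 : p = 2 := ((Nat.prime_dvd_prime_iff_eq Nat.prime_two hp).1 h2p).symm
      subst hp2
      have hdq : d = q := by omega
      have hq2 : q ≠ 2 := fun h => hpq h.symm
      obtain ⟨n', hn1, hn2⟩ := exists_fixed φ q hq h hh (hd ▸ hdq)
      exact hfix q hq hq2 h.right (hd ▸ hdq) n' hn1 hn2
    · have hq2 : q = 2 := ((Nat.prime_dvd_prime_iff_eq Nat.prime_two hq).1 h2q).symm
      subst hq2
      have hdp : d = p := by omega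
      obtain ⟨n', hn1, hn2⟩ := exists_fixed φ p hp h (by rw [hh, mul_comm]) (hd ▸ hdp)
      obtain ⟨g', hg'⟩ := hfix p hp hpq h.right (hd ▸ hdp) n' hn1 hn2
      exact ⟨g', by rw [hg', mul_comm]⟩

theorem exists_order_iff (hexp : ∀ n : N, n ^ 2 = 1)
    (hfix : ∀ q : ℕ, q.Prime → q ≠ 2 → ∀ g : G, orderOf g = q → ∀ n : N, φ g n = n → n ≠ 1 →
      ∃ g' : G, orderOf g' = 2 * q)
    (p q : ℕ) (hp : p.Prime) (hq : q.Prime) (hpq : p ≠ q) :
    (∃ h : N ⋊[φ] G, orderOf h = p * q) ↔ (∃ g : G, orderOf g = p * q) := by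
  constructor
  · rintro ⟨h, hh⟩
    exact exists_order_of_semi φ hexp hfix p q hp hq hpq h hh
  · rintro ⟨g, hg⟩
    exact ⟨SemidirectProduct.inr g, by
      rw [orderOf_injective _ SemidirectProduct.inr_injective, hg]⟩

/-- Transfer of fixed points along Sylow conjugacy. -/
theorem fix_transfer (x g t : G) (k : ℤ) (hk : (x * g * x⁻¹) ^ k = t) (n : N) (hn : φ g n = n) :
    φ t (φ x n) = φ x n := by
  have h1 : φ (x * g * x⁻¹) (φ x n) = φ x n := by
    rw [map_mul, map_mul, MulAut.mul_apply, MulAut.mul_apply, map_inv, MulAut.inv_apply,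
      MulEquiv.symm_apply_apply, hn]
  have h2 : x * g * x⁻¹ ∈ (MulAction.stabilizer (MulAut N) (φ x n)).comap φ := by
    rw [Subgroup.mem_comap, MulAction.mem_stabilizer_iff, MulAut.smul_def]
    exact h1
  have h3 := Subgroup.zpow_mem _ h2 k
  rw [hk, Subgroup.mem_comap, MulAction.mem_stabilizer_iff, MulAut.smul_def] at h3
  exact h3

end semi

end Cfsg.Agent.Lib.H17.G24S.SemiLemmas
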