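import Cfsg.Agent.Lib.H17.G24S.Rep
import Cfsg.Agent.Lib.H17.G24S.GrpLemmas
import Cfsg.Agent.Lib.H17.G24S.SemiLemmas

set_option autoImplicit false

/-! # The semidirect product `4^6 : G2(4)` has the prime graph of `G2(4)` -/

namespace Cfsg.Agent.Lib.H17.G24S

open Matrix Cfsg.Agent.Lib.H17.G24S.RepData Cfsg.Agent.Lib.H17.G24S.GrpLemmas
  Cfsg.Agent.Lib.H17.G24S.SemiLemmas

attribute [local instance] finite_P

/-- the module, written multiplicatively -/
abbrev N6 : Type := Multiplicative (Fin 6 → F4)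

/-- the action of `P` on the module -/
noncomputable def φ : P →* MulAut N6 := (actHom : GL (Fin 6) F4 →* MulAut N6).comp ρ

theorem φ_apply (g : P) (n : N6) :
    φ g n = Multiplicative.ofAdd (((ρ g : GL (Fin 6) F4) : M6) *ᵥ n.toAdd) := rfl

theorem orderOf_ρ_dvd (g : P) : orderOf ((ρ g : GL (Fin 6) F4) : M6) ∣ orderOf g := by
  rw [orderOf_units]
  exact orderOf_map_dvd ρ g

theorem prime_cases (q : ℕ) (hq : q.Prime) (h : q ∣ 251596800) :
    q = 2 ∨ q = 3 ∨ q = 5 ∨ q = 7 ∨ q = 13 := by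
  have e : 251596800 = 2 ^ 12 * (3 ^ 3 * (5 ^ 2 * (7 * 13))) := by norm_num
  rw [e] at h
  rcases hq.dvd_mul.1 h with h | h
  · exact Or.inl ((Nat.prime_dvd_prime_iff_eq hq Nat.prime_two).1 (hq.dvd_of_dvd_pow h))
  rcases hq.dvd_mul.1 h with h | h
  · exact Or.inr (Or.inl ((Nat.prime_dvd_prime_iff_eq hq Nat.prime_three).1 (hq.dvd_of_dvd_pow h)))
  rcases hq.dvd_mul.1 h with h | h
  · exact Or.inr (Or.inr (Or.inl
      ((Nat.prime_dvd_prime_iff_eq hq Nat.prime_five).1 (hq.dvd_of_dvd_pow h))))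
  rcases hq.dvd_mul.1 h with h | h
  · exact Or.inr (Or.inr (Or.inr (Or.inl
      ((Nat.prime_dvd_prime_iff_eq hq (by norm_num)).1 h))))
  · exact Or.inr (Or.inr (Or.inr (Or.inr
      ((Nat.prime_dvd_prime_iff_eq hq (by norm_num)).1 h))))

theorem orderOf_x39 : orderOf x39 = 6 := by
  refine orderOf_eq_of_pow_and_pow_div_prime (by norm_num) o6_pow ?_
  intro p hp hd
  have hle : p ≤ 6 := Nat.le_of_dvd (by norm_num) hd
  have h2 := hp.two_le
  interval_cases p
  · exact o6_pow_3_ne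
  · exact o6_pow_2_ne
  · exact absurd hp (by norm_num)
  · exact absurd hd (by norm_num)
  · exact absurd hp (by norm_num)

theorem orderOf_x41 : orderOf x41 = 10 := by
  refine orderOf_eq_of_pow_and_pow_div_prime (by norm_num) o10_pow ?_
  intro p hp hd
  have hle : p ≤ 10 := Nat.le_of_dvd (by norm_num) hd
  have h2 := hp.two_le
  interval_cases p
  · exact o10_pow_5_ne
  · exact absurd hd (by norm_num)
  · exact absurd hp (by norm_num)
  · exact o10_pow_2_ne
  · exact absurd hp (by norm_num)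
  · exact absurd hd (by norm_num)
  · exact absurd hp (by norm_num)
  · exact absurd hp (by norm_num)
  · exact absurd hp (by norm_num)

theorem exists_order_six : ∃ g : P, orderOf g = 6 := by
  apply exists_orderOf_of_dvd (ew [0, 3, 4]) 6
  have := orderOf_ρ_dvd (ew [0, 3, 4])
  rwa [ρ_ew, o6_ev, orderOf_x39] at this

theorem exists_order_ten : ∃ g : P, orderOf g = 10 := by
  apply exists_orderOf_of_dvd (ew [0, 1, 3]) 10
  have := orderOf_ρ_dvd (ew [0, 1, 3])
  rwa [ρ_ew, o10_ev, orderOf_x41] at this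

theorem fixed_pow (A : M6) (v : Fin 6 → F4) (h : A *ᵥ v = v) (m : ℕ) : (A ^ m) *ᵥ v = v := by
  induction m with
  | zero => rw [pow_zero, Matrix.one_mulVec]
  | succ m ih => rw [pow_succ, ← Matrix.mulVec_mulVec, h, ih]

theorem fpf_of_inv (A I E : M6) (hI : A - 1 = I) (hE : E * I = 1) (v : Fin 6 → F4)
    (h : A *ᵥ v = v) : v = 0 := by
  have h1 : I *ᵥ v = 0 := by
    rw [← hI, Matrix.sub_mulVec, Matrix.one_mulVec, h, sub_self]
  have h2 : (E * I) *ᵥ v = 0 := by
    rw [← Matrix.mulVec_mulVec, h1, Matrix.mulVec_zero]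
  rwa [hE, Matrix.one_mulVec] at h2

theorem At_fpf (v : Fin 6 → F4) (h : At *ᵥ v = v) : v = 0 :=
  fpf_of_inv At ct_I ct_E ct_sub_one ct_E_mul v h

theorem As_fpf (v : Fin 6 → F4) (h : As *ᵥ v = v) : v = 0 :=
  fpf_of_inv As cs_I cs_E cs_sub_one cs_E_mul v h

/-- Elements of prime order `p` (with `p ^ 2 ∤ |P|`) act fixed point freely, if some element `t0`
is mapped to a fixed point free matrix of order `p`. -/
theorem fpf_of (p : ℕ) (hp : p.Prime) (hp2 : ¬ p ^ 2 ∣ 251596800) (t0 : P) (A : M6)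
    (hρ : ((ρ t0 : GL (Fin 6) F4) : M6) = A) (hA : A ^ p = 1) (hA1 : A ≠ 1)
    (hfpf : ∀ v : Fin 6 → F4, A *ᵥ v = v → v = 0)
    (g : P) (hg : orderOf g = p) (n : N6) (hn : φ g n = n) : n = 1 := by
  have := Fact.mk hp
  have hp2' : ¬ p ^ 2 ∣ Nat.card P := by rw [card_P]; exact hp2
  have hoA : orderOf A = p := orderOf_eq_prime hA hA1
  have hdvd : p ∣ orderOf t0 := by
    have := orderOf_ρ_dvd t0
    rwa [hρ, hoA] at this
  obtain ⟨k, hk, hk2⟩ := exists_coprime_pow_order p hp2' t0 hdvd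
  obtain ⟨x, hx⟩ := conj_mem_zpowers p hp2' (t0 ^ k) g hk2 hg
  have hord : orderOf (x * g * x⁻¹) = p := by
    rw [← MulAut.conj_apply, MulEquiv.orderOf_eq]
    exact hg
  have ht' := mem_zpowers_symm p (t0 ^ k) (x * g * x⁻¹) hk2 hord hx
  obtain ⟨j, hj⟩ := Subgroup.mem_zpowers_iff.1 ht'
  have h1 := fix_transfer φ x g (t0 ^ k) j hj n hn
  rw [φ_apply, ρ_pow_val, hρ] at h1
  have h2 : (A ^ k) *ᵥ (φ x n).toAdd = (φ x n).toAdd := by
    have := congrArg Multiplicative.toAdd h1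
    exact this
  obtain ⟨m, hm⟩ := exists_pow_pow_eq A p k hp.one_lt hA hk
  have h3 := fixed_pow (A ^ k) _ h2 m
  rw [hm] at h3
  have h4 := hfpf _ h3
  have h5 : φ x n = 1 := by
    have : (φ x n) = Multiplicative.ofAdd ((φ x n).toAdd) := rfl
    rw [this, h4]
    rfl
  exact (map_eq_one_iff (φ x) (MulEquiv.injective _)).1 h5

theorem fpf7 (g : P) (hg : orderOf g = 7) (n : N6) (hn : φ g n = n) : n = 1 := by
  refine fpf_of 7 (by norm_num) (by norm_num) (ew [0, 1, 2, 3, 4, 5] ^ 3) At ?_ At_pow At_ne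
    At_fpf g hg n hn
  rw [ρ_pow_val, ρ_ew, o21_ev, o21_pow_3]

theorem fpf13 (g : P) (hg : orderOf g = 13) (n : N6) (hn : φ g n = n) : n = 1 := by
  refine fpf_of 13 (by norm_num) (by norm_num) (ew [0, 1, 2, 1, 3, 4, 5]) As ?_ As_pow As_ne
    As_fpf g hg n hn
  rw [ρ_ew, o13_ev]

theorem hfix (q : ℕ) (hq : q.Prime) (hq2 : q ≠ 2) (g : P) (hg : orderOf g = q) (n : N6)
    (hn : φ g n = n) (hn1 : n ≠ 1) : ∃ g' : P, orderOf g' = 2 * q := by
  have hdvd : q ∣ 251596800 := by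
    rw [← card_P, ← hg]
    exact orderOf_dvd_natCard g
  rcases prime_cases q hq hdvd with rfl | rfl | rfl | rfl | rfl
  · exact absurd rfl hq2
  · exact exists_order_six
  · exact exists_order_ten
  · exact absurd (fpf7 g hg n hn) hn1
  · exact absurd (fpf13 g hg n hn) hn1

theorem exp_two (n : N6) : n ^ 2 = 1 := by
  have h : ∀ x : F4, x + x = 0 := by decide
  have : n.toAdd + n.toAdd = 0 := by
    funext i
    exact h _
  rw [pow_two]
  exact congrArg Multiplicative.ofAdd this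

/-- The group `4^6 : G2(4)`. -/
abbrev H0 : Type := N6 ⋊[φ] P

theorem edge_iff (p q : ℕ) (hp : p.Prime) (hq : q.Prime) (hpq : p ≠ q) :
    (∃ h : H0, orderOf h = p * q) ↔ (∃ g : P, orderOf g = p * q) :=
  exists_order_iff φ exp_two hfix p q hp hq hpq

theorem card_N6 : Nat.card N6 = 4096 := by
  show Nat.card (Fin 6 → F4) = 4096
  rw [Nat.card_eq_fintype_card, Fintype.card_fun, F4.card_eq, Fintype.card_fin]
  norm_num

instance : Finite H0 :=
  Finite.of_equiv _ (SemidirectProduct.equivProd (N := N6) (G := P) (φ := φ)).symm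

theorem card_H0 : Nat.card H0 = 4096 * 251596800 := by
  rw [card_semi, card_N6, card_P]

theorem prime_dvd_H0_iff (p : ℕ) (hp : p.Prime) : p ∣ Nat.card H0 ↔ p ∣ Nat.card P := by
  rw [card_H0, card_P]
  constructor
  · intro h
    rcases hp.dvd_mul.1 h with h | h
    · have : p ∣ 2 ^ 12 := by norm_num; exact h
      have h2 : p = 2 := (Nat.prime_dvd_prime_iff_eq hp Nat.prime_two).1 (hp.dvd_of_dvd_pow this)
      rw [h2]
      norm_num
    · exact h
  · intro h
    exact Dvd.dvd.mul_left h _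

end Cfsg.Agent.Lib.H17.G24S
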